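import Mathlib

/-!
# The numerical contradiction for a group partitioned by Frobenius kernels

The data: for each kernel its abelianisation order `hb = N e + 1`, its order `h`, and the integers
`C l i`, the value on the kernel `l` of the exceptional characters of the kernel `i`.  For each pair
one of `C l i`, `C i l` is odd; weighing the pairs at an index of least `e` gives a contradiction.
-/

namespace Cfsg.Agent.CNFinish

open scoped BigOperators

theorem ident_case_one (e : ℝ) (he : 3 ≤ e) :
    1 / e + (e - 1) / (2 * e) + (2 * e + 1) / (2 * e) * (e / (4 * e + 1)) + 1 / 343 < 1 := by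
  have h1 : 1 / e + (e - 1) / (2 * e) ≤ 2 / 3 := by
    rw [div_add_div _ _ (by linarith) (by linarith), div_le_div_iff₀ (by positivity) (by norm_num)]
    nlinarith
  have h2 : (2 * e + 1) / (2 * e) * (e / (4 * e + 1)) ≤ 7 / 26 := by
    rw [div_mul_div_comm, div_le_div_iff₀ (by positivity) (by norm_num)]
    nlinarith
  linarith

theorem ident_case_two (e : ℝ) (he : 5 ≤ e) :
    1 / e + (e - 1) / (2 * (e + 2)) + 1 / 2 + 1 / (8 * e ^ 3) < 1 := by
  have h : 1 / e + (e - 1) / (2 * (e + 2)) + 1 / (8 * e ^ 3) < 1 / 2 := by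
    rw [div_add_div _ _ (by linarith) (by linarith), div_add_div _ _ (by positivity) (by positivity),
      div_lt_div_iff₀ (by positivity) (by norm_num)]
    have h2 : 0 ≤ (e - 5) * e ^ 2 := by nlinarith
    have h3 : 16 * e ^ 2 + e + 2 < 4 * e ^ 3 := by nlinarith
    nlinarith [mul_lt_mul_of_pos_left h3 (show (0:ℝ) < e by linarith)]
  linarith

/-- The numerical contradiction. -/
theorem tournament_false {ι : Type*} [Fintype ι] [DecidableEq ι]
    (e N hb h : ι → ℕ) (g : ℕ) (C : ι → ι → ℤ)
    (hι : 2 ≤ Fintype.card ι)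
    (heodd : ∀ i, Odd (e i)) (he : ∀ i, 3 ≤ e i) (hN : ∀ i, Even (N i)) (hN2 : ∀ i, 2 ≤ N i)
    (hbN : ∀ i, hb i = N i * e i + 1) (hbd : ∀ i, hb i ∣ h i) (hh : ∀ i, 0 < h i)
    (hcop : ∀ i j, i ≠ j → (h i).Coprime (h j))
    (hprod : ∀ s : Finset ι, ∏ i ∈ s, h i ≤ g)
    (hseven : ∀ i, hb i = 7 → h i = 7)
    (hsum : ∑ i, ((h i : ℝ) - 1) / ((e i : ℝ) * h i) = 1 - 1 / (g : ℝ))
    (hA : ∀ l m, l ≠ m → C l m ≠ 0 ∨ C m l ≠ 0)
    (hB : ∀ l, ∑ m ∈ Finset.univ.erase l, (N m : ℝ) * (C l m : ℝ) ^ 2 ≤ (e l : ℝ) - 1)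
    (hC : ∀ i, ∑ l ∈ Finset.univ.erase i,
      ((hb l : ℝ) - 1) / ((e l : ℝ) * hb l) * (C l i : ℝ) ^ 2 ≤ (e i : ℝ) / hb i) :
    False := by
  have hne : (Finset.univ : Finset ι).Nonempty :=
    Finset.univ_nonempty_iff.2 (Fintype.card_pos_iff.1 (by omega))
  obtain ⟨i, -, hmin⟩ := Finset.exists_min_image Finset.univ e hne
  set t : ι → ℝ := fun l => ((h l : ℝ) - 1) / ((e l : ℝ) * h l) with ht
  have hhb : ∀ l, hb l ≤ h l := fun l => Nat.le_of_dvd (hh l) (hbd l)
  have hb_ge : ∀ l, 2 * e l + 1 ≤ hb l := fun l => by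
    rw [hbN]; nlinarith [hN2 l]
  have heR : ∀ l, (3 : ℝ) ≤ e l := fun l => by exact_mod_cast he l
  have hhR : ∀ l, (0 : ℝ) < h l := fun l => by exact_mod_cast hh l
  have ht1 : ∀ l, t l ≤ 1 / (e l : ℝ) := fun l => by
    have := heR l; have := hhR l
    simp only [ht]
    rw [div_le_div_iff₀ (by positivity) (by positivity)]
    nlinarith
  have hh7 : ∀ l, 7 ≤ h l := fun l => by
    have := hb_ge l; have := he l; have := hhb l; omega
  -- at least three kernels
  have h3 : 3 ≤ Fintype.card ι := by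
    by_contra hcon
    have h2 : Fintype.card ι = 2 := by omega
    have hg49 : 49 ≤ g := by
      refine le_trans ?_ (hprod Finset.univ)
      calc 49 = ∏ _l : ι, 7 := by rw [Finset.prod_const, Finset.card_univ, h2]; norm_num
        _ ≤ _ := Finset.prod_le_prod (by simp) fun l _ => hh7 l
    have hle : ∑ l, t l ≤ ∑ _l : ι, (1 / 3 : ℝ) := Finset.sum_le_sum fun l _ =>
      (ht1 l).trans (one_div_le_one_div_of_le (by norm_num) (heR l))
    rw [Finset.sum_const, Finset.card_univ, h2, hsum] at hle
    have : 1 / (g : ℝ) ≤ 1 / 49 := one_div_le_one_div_of_le (by norm_num) (by exact_mod_cast hg49)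
    norm_num at hle
    norm_num at this
    linarith
  have hg3 : (2 * e i + 1) ^ 3 ≤ g := by
    obtain ⟨s, -, hs⟩ := Finset.exists_subset_card_eq (s := (Finset.univ : Finset ι)) (n := 3) (by
      rw [Finset.card_univ]; exact h3)
    refine le_trans ?_ (hprod s)
    calc (2 * e i + 1) ^ 3 = ∏ _l ∈ s, (2 * e i + 1) := by rw [Finset.prod_const, hs]
      _ ≤ _ := Finset.prod_le_prod (by simp) fun l _ => by
        have := hmin l (Finset.mem_univ l); have := hb_ge l; have := hhb l; omega
  set E : ℝ := (e i : ℝ) with hE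
  have hE3 : 3 ≤ E := heR i
  have hminR : ∀ l, E ≤ (e l : ℝ) := fun l => by rw [hE]; exact_mod_cast hmin l (Finset.mem_univ l)
  set F : ℝ := (2 * E + 1) / (2 * E) with hF
  -- the outgoing pairs
  have hout : ∑ l ∈ Finset.univ.erase i, (if C l i ≠ 0 then t l else 0) ≤ F * (E / hb i) := by
    refine le_trans (Finset.sum_le_sum fun l _ => ?_) ((Finset.mul_sum _ _ _).symm.le.trans
      (mul_le_mul_of_nonneg_left (hC i) (by positivity)))
    have hbl : 2 * E + 1 ≤ (hb l : ℝ) := by
      have : (2 * (e l : ℝ) + 1) ≤ hb l := by exact_mod_cast hb_ge l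
      have := hminR l; linarith
    have hbpos : (0 : ℝ) < hb l := by linarith
    have hel := heR l
    have hnn : 0 ≤ ((hb l : ℝ) - 1) / ((e l : ℝ) * hb l) :=
      div_nonneg (by linarith) (by positivity)
    split_ifs with hcl
    · have hc1 : (1 : ℝ) ≤ (C l i : ℝ) ^ 2 := by
        have : (1 : ℤ) ≤ C l i ^ 2 := by nlinarith [Int.one_le_abs hcl, sq_abs (C l i)]
        exact_mod_cast this
      calc t l ≤ 1 / (e l : ℝ) := ht1 l
        _ ≤ F * (((hb l : ℝ) - 1) / ((e l : ℝ) * hb l)) := by
            rw [hF, div_mul_div_comm, div_le_div_iff₀ (by positivity) (by positivity)]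
            nlinarith [mul_le_mul_of_nonneg_left hbl (show (0:ℝ) ≤ e l by linarith)]
        _ ≤ F * (((hb l : ℝ) - 1) / ((e l : ℝ) * hb l) * (C l i : ℝ) ^ 2) :=
            mul_le_mul_of_nonneg_left (le_mul_of_one_le_right hnn hc1) (by positivity)
    · exact mul_nonneg (by positivity) (mul_nonneg hnn (sq_nonneg _))
  -- every other kernel is on one of the pairs
  have hsplit : ∑ l, t l ≤ t i + ∑ l ∈ Finset.univ.erase i, (if C i l ≠ 0 then t l else 0)
      + ∑ l ∈ Finset.univ.erase i, (if C l i ≠ 0 then t l else 0) := by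
    rw [← Finset.add_sum_erase _ _ (Finset.mem_univ i), add_assoc, ← Finset.sum_add_distrib]
    refine add_le_add le_rfl (Finset.sum_le_sum fun l hl => ?_)
    have htl : 0 ≤ t l := by
      have := hhR l; have := heR l
      have : (1 : ℝ) ≤ h l := by exact_mod_cast hh l
      exact div_nonneg (by linarith) (by positivity)
    rcases hA i l (Finset.ne_of_mem_erase hl).symm with hh' | hh'
    · rw [if_pos hh']; split_ifs <;> linarith
    · rw [if_pos hh']; split_ifs <;> linarith
  -- incoming pairs, weighted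
  have hin : ∀ w : ℝ, 0 ≤ w → (∀ l, l ≠ i → t l ≤ (N l : ℝ) * w) →
      ∑ l ∈ Finset.univ.erase i, (if C i l ≠ 0 then t l else 0) ≤ w * (E - 1) := by
    intro w hw hwt
    refine le_trans (Finset.sum_le_sum fun l hl => ?_) ((Finset.mul_sum _ _ _).symm.le.trans
      (mul_le_mul_of_nonneg_left (hB i) hw))
    split_ifs with hcl
    · have hc1 : (1 : ℝ) ≤ (C i l : ℝ) ^ 2 := by
        have : (1 : ℤ) ≤ C i l ^ 2 := by nlinarith [Int.one_le_abs hcl, sq_abs (C i l)]
        exact_mod_cast this
      calc t l ≤ (N l : ℝ) * w := hwt l (Finset.ne_of_mem_erase hl)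
        _ ≤ (N l : ℝ) * w * (C i l : ℝ) ^ 2 := le_mul_of_one_le_right (by positivity) hc1
        _ = _ := by ring
    · positivity
  have hgR : ((2 * E + 1) ^ 3 : ℝ) ≤ g := by rw [hE]; exact_mod_cast hg3
  have hNR : ∀ l, (2 : ℝ) ≤ N l := fun l => by exact_mod_cast hN2 l
  have hbR : (hb i : ℝ) = N i * E + 1 := by rw [hE, hbN]; push_cast; ring
  have hsum' : 1 - 1 / (g : ℝ) = ∑ l, t l := hsum.symm
  rcases (hN2 i).eq_or_lt with hN_eq | hN_lt
  · -- N = 2
    have hin' := hin (1 / (2 * (E + 2))) (by positivity) fun l hli => by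
      refine (ht1 l).trans ?_
      have hel := hminR l
      rcases (hN2 l).eq_or_lt with hl2 | hl4
      · have hne_e : e l ≠ e i := fun hee => by
          have heq : hb l = hb i := by rw [hbN, hbN, ← hl2, ← hN_eq, hee]
          have h1 := Nat.eq_one_of_dvd_coprimes (hcop l i hli) (hbd l) (heq ▸ hbd i)
          have := hb_ge l; have := he l; omega
        have hstep : e i + 2 ≤ e l := by
          have := hmin l (Finset.mem_univ l)
          obtain ⟨a, ha⟩ := heodd l; obtain ⟨b, hb'⟩ := heodd i; omega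
        have hstepR : E + 2 ≤ (e l : ℝ) := by rw [hE]; exact_mod_cast hstep
        rw [← hl2, mul_one_div, div_le_div_iff₀ (by linarith) (by positivity)]
        push_cast; linarith
      · have hN4 : (4 : ℝ) ≤ N l := by
          obtain ⟨a, ha⟩ := hN l
          have : 4 ≤ N l := by omega
          exact_mod_cast this
        rw [mul_one_div, div_le_div_iff₀ (by linarith) (by positivity)]
        nlinarith
    have hout' : F * (E / hb i) = 1 / 2 := by
      rw [hbR, ← hN_eq, hF]; push_cast; field_simp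
    by_cases he3 : e i = 3
    · have hb7 : hb i = 7 := by rw [hbN, ← hN_eq, he3]
      have hti : t i = 2 / 7 := by
        simp only [ht, hseven i hb7, he3]; norm_num
      have hE' : E = 3 := by rw [hE, he3]; norm_num
      rw [hE'] at hin' hgR
      have hg343 : 1 / (g : ℝ) ≤ 1 / 343 := one_div_le_one_div_of_le (by norm_num)
        (le_trans (by norm_num) hgR)
      have h5 : 1 / (2 * ((3 : ℝ) + 2)) * (3 - 1) = 1 / 5 := by norm_num
      rw [h5] at hin'
      linarith [hsplit, hout.trans_eq hout']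
    · have hE5 : 5 ≤ E := by
        have : 5 ≤ e i := by have := he i; obtain ⟨a, ha⟩ := heodd i; omega
        rw [hE]; exact_mod_cast this
      have hgE : 1 / (g : ℝ) ≤ 1 / (8 * E ^ 3) :=
        one_div_le_one_div_of_le (by positivity) (by nlinarith [hgR])
      have h1 := ht1 i
      have h2 := ident_case_two E hE5
      have h4 : 1 / (2 * (E + 2)) * (E - 1) = (E - 1) / (2 * (E + 2)) := by ring
      linarith [hsplit, hout, hin']
  · -- N ≥ 4
    have hN4 : (4 : ℝ) ≤ N i := by
      obtain ⟨a, ha⟩ := hN i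
      have : 4 ≤ N i := by omega
      exact_mod_cast this
    have hin' := hin (1 / (2 * E)) (by positivity) fun l _ => by
      refine (ht1 l).trans ?_
      have hel := hminR l
      rw [mul_one_div, div_le_div_iff₀ (by linarith) (by positivity)]
      nlinarith [hNR l]
    have hout' : F * (E / hb i) ≤ F * (E / (4 * E + 1)) := by
      refine mul_le_mul_of_nonneg_left ?_ (by positivity)
      refine div_le_div_of_nonneg_left (by linarith) (by positivity) ?_
      rw [hbR]; nlinarith
    have hg343 : 1 / (g : ℝ) ≤ 1 / 343 := one_div_le_one_div_of_le (by norm_num) (le_trans (le_trans (by norm_num)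
      (pow_le_pow_left₀ (by norm_num) (by linarith : (7:ℝ) ≤ 2 * E + 1) 3)) hgR)
    have h1 := ht1 i
    have h2 := ident_case_one E hE3
    have h4 : 1 / (2 * E) * (E - 1) = (E - 1) / (2 * E) := by ring
    linarith [hsplit, hout, hin']

end Cfsg.Agent.CNFinish
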