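import Cfsg.Agent.Lib.CNFinish.KernelChar
import Cfsg.Agent.Lib.CNFinish.Tournament
import Cfsg.Prelude.Def_OddOrderLocal

/-!
# No group of odd order is partitioned by Frobenius kernels of coprime orders
-/

set_option autoImplicit false

namespace Cfsg.Agent.CNFinish

open Cfsg CfsgLib.Char
open scoped ComplexConjugate Classical

universe u

variable {G : Type u} [Group G] [Fintype G]

/-- An induced difference of lifted characters is supported on the conjugates of the nonidentity
elements of the kernel. -/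
theorem indFun_diff_support (H L : Subgroup G) [(H.subgroupOf L).Normal] [Fintype L]
    [Fintype (L ⧸ der H L)] [Fintype (Exc H L)] (hp : IsKernelPair H L) (j k : Exc H L) {g : G}
    (hg : (indFun L (infl H L j) - indFun L (infl H L k)) g ≠ 0) :
    ∃ x : G, x⁻¹ * g * x ∈ H ∧ x⁻¹ * g * x ≠ 1 := by
  by_contra hno
  push Not at hno
  apply hg
  rw [← indFun_sub]
  refine mul_eq_zero_of_right _ (Finset.sum_eq_zero fun x _ => ?_)
  by_cases hx : x⁻¹ * g * x ∈ L
  · rw [extendByZero_mem L _ hx, Pi.sub_apply]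
    by_cases hH : x⁻¹ * g * x ∈ H
    · have h1 : (⟨_, hx⟩ : L) = 1 := Subtype.ext (hno x hH)
      rw [h1, infl_one H L hp, infl_one H L hp, sub_self]
    · rw [infl_vanish H L hp j (by exact hH), infl_vanish H L hp k (by exact hH), sub_self]
  · exact extendByZero_notMem L _ hx

variable {ι : Type*} [Fintype ι]

/-- The decomposition of a sum over `G` along a covering by TI kernels. -/
theorem sum_over_cover (H : ι → Subgroup G)
    (hcop : ∀ i j, i ≠ j → Nat.Coprime (Nat.card (H i)) (Nat.card (H j)))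
    (hTI : ∀ i, Cfsg.IsTISubset (H i : Set G))
    (hcover : ∀ g : G, g ≠ 1 → ∃ i, ∃ x : G, x * g * x⁻¹ ∈ H i)
    (F : G → ℝ) (hF : ∀ g x : G, F (x * g * x⁻¹) = F g) :
    ∑ g, F g = F 1 + ∑ i, ((Subgroup.normalizer (H i : Set G)).index : ℝ) *
      ∑ h ∈ Finset.univ.filter (fun g : G => g ∈ H i ∧ g ≠ 1), F h := by
  let X := Σ i : ι, (G ⧸ Subgroup.normalizer (H i : Set G)) × {h : G // h ∈ H i ∧ h ≠ 1}
  let f : X → {g : G // g ≠ 1} := fun x =>
    ⟨Quotient.out x.2.1 * x.2.2.1 * (Quotient.out x.2.1)⁻¹, fun e =>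
      x.2.2.2.2 (conj_eq_one_iff.mp e)⟩
  have hbij : Function.Bijective f := by
    constructor
    · rintro ⟨i, q, h⟩ ⟨j, r, k⟩ he
      have he' : Quotient.out q * h.1 * (Quotient.out q)⁻¹ =
          Quotient.out r * k.1 * (Quotient.out r)⁻¹ := congrArg Subtype.val he
      set a := Quotient.out q with ha
      set b := Quotient.out r with hb
      have hconj : b⁻¹ * a * h.1 * (b⁻¹ * a)⁻¹ = k.1 := by
        calc b⁻¹ * a * h.1 * (b⁻¹ * a)⁻¹ = b⁻¹ * (a * h.1 * a⁻¹) * b := by group
          _ = _ := by rw [he']; group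
      have hij : i = j := by
        by_contra hne
        have h1 : orderOf k.1 = orderOf h.1 := by
          rw [← hconj, ← MulAut.conj_apply, MulEquiv.orderOf_eq]
        have h2 := (H i).orderOf_dvd_natCard h.2.1
        have h3 := (H j).orderOf_dvd_natCard k.2.1
        rw [h1] at h3
        exact h.2.2 (orderOf_eq_one_iff.mp (Nat.eq_one_of_dvd_coprimes (hcop i j hne) h2 h3))
      subst hij
      have hn : b⁻¹ * a ∈ Subgroup.normalizer (H i : Set G) := by
        by_contra hn
        exact h.2.2 (hTI i _ hn _ h.2.1 (by rw [hconj]; exact k.2.1))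
      have hqr : r = q := by
        rw [← Quotient.out_eq q, ← Quotient.out_eq r]
        exact QuotientGroup.eq.mpr hn
      subst hqr
      have : h.1 = k.1 := by
        rw [hb, ha] at hconj
        simpa using hconj
      rw [Subtype.ext this]
    · rintro ⟨g, hg⟩
      obtain ⟨i, x, hx⟩ := hcover g hg
      have hout : (Quotient.out (QuotientGroup.mk x⁻¹ : G ⧸ Subgroup.normalizer (H i : Set G)))⁻¹ *
          x⁻¹ ∈ Subgroup.normalizer (H i : Set G) :=
        QuotientGroup.eq.mp (Quotient.out_eq _)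
      set a := Quotient.out (QuotientGroup.mk x⁻¹ : G ⧸ Subgroup.normalizer (H i : Set G)) with ha
      have hmem : a⁻¹ * g * a ∈ H i := by
        have := (Subgroup.mem_normalizer_iff.mp hout (x * g * x⁻¹)).mp hx
        rwa [show a⁻¹ * x⁻¹ * (x * g * x⁻¹) * (a⁻¹ * x⁻¹)⁻¹ = a⁻¹ * g * a by group] at this
      refine ⟨⟨i, (QuotientGroup.mk x⁻¹, ⟨_, hmem, fun e' => hg ?_⟩)⟩, Subtype.ext ?_⟩
      · calc g = a * (a⁻¹ * g * a) * a⁻¹ := by group
          _ = 1 := by rw [e']; group
      · show a * (a⁻¹ * g * a) * a⁻¹ = g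
        group
  rw [Fintype.sum_eq_add_sum_subtype_ne F (1 : G)]
  congr 1
  rw [← Fintype.sum_equiv (Equiv.ofBijective f hbij) (fun x : X => F x.2.2.1) (fun g => F g.1)
    (fun x => (hF x.2.2.1 _).symm), Fintype.sum_sigma]
  refine Finset.sum_congr rfl fun i _ => ?_
  rw [Fintype.sum_prod_type]
  show ∑ _x, ∑ y : {h : G // h ∈ H i ∧ h ≠ 1}, F y.1 = _
  rw [Finset.sum_const, Finset.card_univ, nsmul_eq_mul,
    ← Nat.card_eq_fintype_card]
  congr 1
  exact (Finset.sum_subtype _ (fun g => by simp) F).symm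

theorem zmod_pairs (f : IrrCharacter G → ZMod 2) (s : Finset (IrrCharacter G))
    (hs : ∀ ψ ∈ s, conjPerm ψ ∈ s) (hne : ∀ ψ ∈ s, conjPerm ψ ≠ ψ)
    (hf : ∀ ψ ∈ s, f (conjPerm ψ) = f ψ) : ∑ ψ ∈ s, f ψ = 0 := by
  refine Finset.sum_involution (fun ψ _ => conjPerm ψ) (fun ψ h => ?_) (fun ψ h _ => hne ψ h)
    (fun ψ h => hs ψ h) (fun ψ _ => Subtype.ext (funext fun g => Complex.conj_conj _))
  rw [hf ψ h]
  exact CharTwo.add_self_eq_zero _

/-- No group of odd order is partitioned by coprime Frobenius kernels. -/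
theorem no_partition (hodd : Odd (Nat.card G)) (hι : 2 ≤ Fintype.card ι) (L H : ι → Subgroup G)
    (hp : ∀ i, IsKernelPair (H i) (L i))
    (hN : ∀ i, Subgroup.normalizer (H i : Set G) = L i)
    (hcop : ∀ i j, i ≠ j → Nat.Coprime (Nat.card (H i)) (Nat.card (H j)))
    (hTI : ∀ i, Cfsg.IsTISubset (H i : Set G))
    (hcover : ∀ g : G, g ≠ 1 → ∃ i, ∃ x : G, x * g * x⁻¹ ∈ H i) : False := by
  have hn : ∀ i, ((H i).subgroupOf (L i)).Normal := fun i => (hp i).normal
  set e : ι → ℕ := fun i => ((H i).subgroupOf (L i)).index with he_def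
  set hb : ι → ℕ := fun i => Nat.card (kbar (H i) (L i)) with hb_def
  set N : ι → ℕ := fun i => Fintype.card (Exc (H i) (L i)) with hN_def
  set h : ι → ℕ := fun i => Nat.card (H i) with hh_def
  set g : ℕ := Nat.card G with hg_def
  have hgpos : 0 < g := Nat.card_pos
  have hgR : (g : ℝ) ≠ 0 := Nat.cast_ne_zero.2 hgpos.ne'
  -- the numbers
  have hhK : ∀ i, h i = hb i * Nat.card (der (H i) (L i)) := fun i => by
    simp only [hh_def, hb_def]
    rw [← card_kernel, Nat.card_congr (Subgroup.subgroupOfEquivOfLe (hp i).lt.le).toEquiv]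
  have hedvd : ∀ i, e i ∣ g := fun i =>
    (Subgroup.index_dvd_card _).trans (Subgroup.card_subgroup_dvd_card (L i))
  have heodd : ∀ i, Odd (e i) := fun i => Odd.of_dvd_nat hodd (hedvd i)
  have he3 : ∀ i, 3 ≤ e i := fun i => by
    have h1 : e i ≠ 1 := fun h1 => by
      rw [he_def, Subgroup.index_eq_one, Subgroup.subgroupOf_eq_top] at h1
      exact absurd h1 (hp i).lt.not_ge
    obtain ⟨m, hm⟩ := heodd i; omega
  have hhodd : ∀ i, Odd (h i) := fun i => Odd.of_dvd_nat hodd (Subgroup.card_subgroup_dvd_card _)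
  have hbN : ∀ i, hb i = N i * e i + 1 := fun i => card_exc (H i) (L i) (hp i)
  have hbd : ∀ i, hb i ∣ h i := fun i => ⟨_, hhK i⟩
  have hbodd : ∀ i, Odd (hb i) := fun i => Odd.of_dvd_nat (hhodd i) (hbd i)
  have hNeven : ∀ i, Even (N i) := fun i => by
    rcases Nat.even_or_odd (N i) with hev | hod
    · exact hev
    · exfalso
      have := hbodd i
      rw [hbN] at this
      exact Nat.not_odd_iff_even.2 ((hod.mul (heodd i)).add_one) this
  have hN2 : ∀ i, 2 ≤ N i := fun i => by
    obtain ⟨a, ha, ha1⟩ := exists_kbar_ne_one (H i) (L i) (hp i)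
    have h1 : 1 < hb i := by
      simp only [hb_def]
      exact Finite.one_lt_card_iff_nontrivial.2 ⟨⟨⟨a, ha⟩, 1, fun h => ha1 (Subtype.ext_iff.1 h)⟩⟩
    rw [hbN] at h1
    obtain ⟨m, hm⟩ := hNeven i
    rcases Nat.eq_zero_or_pos (N i) with h0 | h0
    · rw [h0] at h1; omega
    · omega
  have hex : ∀ i, ∃ j : Exc (H i) (L i), True := fun i => by
    have : 0 < N i := by have := hN2 i; omega
    exact ⟨(Fintype.card_pos_iff.1 this).some, trivial⟩
  choose j₀ _ using hex
  have hfam : ∀ i, Nonempty (Family (H i) (L i)) := fun i => exists_family (H i) (L i) (hp i) (j₀ i)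
  let Φ : ∀ i, Family (H i) (L i) := fun i => (hfam i).some
  choose c hc using fun i ψ => (Φ i).avg_value (hp i) (j₀ i) ψ
  set C : ι → ι → ℤ := fun l i => c l ((Φ i).X (j₀ i)) with hC_def
  -- conjugate nonidentity elements lie over one index
  have hsep : ∀ l m, l ≠ m → ∀ x ∈ H l, x ≠ 1 → ∀ y : G, y⁻¹ * x * y ∉ H m := by
    intro l m hlm x hx hx1 y hy
    have h1 : orderOf (y⁻¹ * x * y) = orderOf x := by
      rw [← MulEquiv.orderOf_eq (MulAut.conj y) (y⁻¹ * x * y)]
      congr 1
      show y * (y⁻¹ * x * y) * y⁻¹ = x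
      group
    have h2 := (H l).orderOf_dvd_natCard hx
    have h3 := (H m).orderOf_dvd_natCard hy
    rw [h1] at h3
    exact hx1 (orderOf_eq_one_iff.1 (Nat.eq_one_of_dvd_coprimes (hcop l m hlm) h2 h3))
  have hdiff_zero : ∀ m, ∀ j k : Exc (H m) (L m), ∀ x : G,
      (∀ y : G, y⁻¹ * x * y ∈ H m → y⁻¹ * x * y = 1) →
      ((Φ m).X j : G → ℂ) x = ((Φ m).X k : G → ℂ) x := by
    intro m j k x hx
    have h0 : (indFun (L m) (infl (H m) (L m) j) - indFun (L m) (infl (H m) (L m) k)) x = 0 := by
      by_contra hne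
      obtain ⟨y, hy, hy1⟩ := indFun_diff_support (H m) (L m) (hp m) j k hne
      exact hy1 (hx y hy)
    rw [(Φ m).diff, Pi.smul_apply, Pi.sub_apply, smul_eq_mul] at h0
    refine sub_eq_zero.1 ((mul_eq_zero.1 h0).resolve_left ?_)
    rcases (Φ m).sgn_eq with hs | hs <;> rw [hs] <;> norm_num
  -- families of different kernels are disjoint
  have hdisj : ∀ l m, l ≠ m → ∀ (j : Exc (H l) (L l)) (k : Exc (H m) (L m)),
      (Φ l).X j ≠ (Φ m).X k := by
    intro l m hlm j k hjk
    obtain ⟨j', hj'⟩ := Fintype.exists_ne_of_one_lt_card (by have := hN2 l; exact this) j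
    obtain ⟨k', hk'⟩ := Fintype.exists_ne_of_one_lt_card (by have := hN2 m; exact this) k
    have hz : classInner (indFun (L l) (infl (H l) (L l) j) - indFun (L l) (infl (H l) (L l) j'))
        (indFun (L m) (infl (H m) (L m) k) - indFun (L m) (infl (H m) (L m) k')) = 0 := by
      refine mul_eq_zero_of_right _ (Finset.sum_eq_zero fun x _ => ?_)
      by_contra hne
      obtain ⟨y, hy, hy1⟩ := indFun_diff_support (H l) (L l) (hp l) j j' (left_ne_zero_of_mul hne)
      obtain ⟨z, hz, hz1⟩ := indFun_diff_support (H m) (L m) (hp m) k k'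
        (fun h => (right_ne_zero_of_mul hne) (by rw [h, map_zero]))
      refine hsep l m hlm _ hy hy1 (y⁻¹ * z) ?_
      rwa [show (y⁻¹ * z)⁻¹ * (y⁻¹ * x * y) * (y⁻¹ * z) = z⁻¹ * x * z by group]
    rw [(Φ l).diff, (Φ m).diff, classInner_smul_left, classInner_smul_right, classInner_sub_left,
      classInner_sub_right, classInner_sub_right] at hz
    simp only [classInner_irr ((Φ l).X _).2 ((Φ m).X _).2, map_intCast] at hz
    rw [if_pos (congrArg Subtype.val hjk), if_neg, if_neg] at hz
    · have hne : ((Φ l).sgn : ℂ) * (Φ m).sgn ≠ 0 := by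
        rcases (Φ l).sgn_eq with hs | hs <;> rcases (Φ m).sgn_eq with ht | ht <;> simp [hs, ht]
      split_ifs at hz with h4
      · apply hne; linear_combination hz / 2
      · apply hne; linear_combination hz
    · intro h'
      exact hj' ((Φ l).inj (Subtype.ext h' |>.trans hjk.symm))
    · intro h'
      exact hk' ((Φ m).inj ((Subtype.ext h').symm.trans hjk))
  have hpart0 : ∀ l m, l ≠ m → ∀ (k : Exc (H m) (L m)) (a), (Φ l).part ((Φ m).X k) a = 0 :=
    fun l m hlm k a => (Φ l).part_eq_zero (fun j => hdisj l m hlm j k) a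
  -- the integers are constant on each family
  have hCconst : ∀ l m, ∀ k : Exc (H m) (L m), c l ((Φ m).X k) = C l m := by
    intro l m k
    obtain ⟨a, ha, ha1⟩ := exists_kbar_ne_one (H l) (L l) (hp l)
    have h1 := hc l ((Φ m).X k) a ha ha1
    have h2 := hc l ((Φ m).X (j₀ m)) a ha ha1
    rcases eq_or_ne l m with rfl | hlm
    · rw [Family.part_X] at h1 h2
      have h3 : avg (H l) (L l) ((Φ l).X k : G → ℂ) a - avg (H l) (L l) ((Φ l).X (j₀ l) : G → ℂ) a =
          ((Φ l).sgn : ℂ) * ((k.1 : _ → ℂ) a - ((j₀ l).1 : _ → ℂ) a) := by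
        simp only [avg]
        rw [← mul_sub, ← Finset.sum_sub_distrib]
        have hterm : ∀ d : der (H l) (L l),
            ((Φ l).X k : G → ℂ) ((a.out * d : L l) : G) -
              ((Φ l).X (j₀ l) : G → ℂ) ((a.out * d : L l) : G) =
            ((Φ l).sgn : ℂ) * ((k.1 : _ → ℂ) a - ((j₀ l).1 : _ → ℂ) a) := by
          intro d
          have h0 := congrFun ((Φ l).diff k (j₀ l)) ((a.out * d : L l) : G)
          rw [← indFun_sub] at h0
          rw [indFun_eq_of_ti (L l) (H l : Set G) (fun g hg t ht h => (hp l).ti g hg t ht h) _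
              (isClassFunction_of_isGeneralized (isGeneralized_sub
                (isGeneralized_of_isIrr (infl_irr _ _ k))
                (isGeneralized_of_isIrr (infl_irr _ _ (j₀ l)))))
              (fun x hx => by
                rw [Pi.sub_apply, infl_vanish _ _ (hp l) k hx, infl_vanish _ _ (hp l) _ hx,
                  sub_self])
              (a.out * d) (rep_mem _ _ ha d)
              (fun h => rep_ne_one _ _ ha1 d (congrArg Subtype.val h)),
            Pi.sub_apply, Pi.smul_apply, Pi.sub_apply, smul_eq_mul] at h0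
          have e : QuotientGroup.mk' (der (H l) (L l)) (a.out * d) = a := by
            show ((a.out * d : L l) : L l ⧸ der (H l) (L l)) = a
            rw [QuotientGroup.mk_mul_of_mem _ d.2, QuotientGroup.out_eq']
          simp only [infl, e] at h0
          rw [h0]
          rcases (Φ l).sgn_eq with hs | hs <;> rw [hs] <;> push_cast <;> ring
        rw [Finset.sum_congr rfl fun d _ => hterm d, Finset.sum_const, Finset.card_univ,
          nsmul_eq_mul, ← Nat.card_eq_fintype_card, inv_mul_cancel_left₀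
            (Nat.cast_ne_zero.2 Nat.card_pos.ne')]
      rw [h1, h2] at h3
      have : (c l ((Φ l).X k) : ℂ) = c l ((Φ l).X (j₀ l)) := by linear_combination h3
      exact_mod_cast this
    · rw [hpart0 l m hlm, mul_zero, add_zero] at h1 h2
      have h3 : avg (H l) (L l) ((Φ m).X k : G → ℂ) a = avg (H l) (L l) ((Φ m).X (j₀ m) : G → ℂ) a := by
        simp only [avg]
        congr 1
        refine Finset.sum_congr rfl fun d _ => hdiff_zero m _ _ _ fun y hy => absurd hy ?_
        exact hsep l m hlm _ (rep_mem _ _ ha d) (rep_ne_one _ _ ha1 d) y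
      rw [h1, h2] at h3
      exact_mod_cast h3
  -- the trivial character
  let one : IrrCharacter G := ⟨fun _ => 1, isIrrCharacter_one⟩
  have hone_part : ∀ l, (∀ j, (Φ l).X j ≠ one) := by
    intro l j hj
    refine exc_ne_const (H l) (L l) (hp l) (hN2 l) j
      ((Φ l).sgn * (1 - c l one)) fun a ha ha1 => ?_
    have h1 := hc l one a ha ha1
    rw [← hj, Family.part_X, hj] at h1
    rw [show avg (H l) (L l) (one : G → ℂ) a = 1 from avg_one _ _ a] at h1
    rcases (Φ l).sgn_eq with hs | hs <;> rw [hs] at h1 ⊢ <;> push_cast at h1 ⊢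
    · linear_combination -h1
    · linear_combination h1
  have hc_one : ∀ l, c l one = 1 := by
    intro l
    obtain ⟨a, ha, ha1⟩ := exists_kbar_ne_one (H l) (L l) (hp l)
    have h1 := hc l one a ha ha1
    rw [(Φ l).part_eq_zero (hone_part l), mul_zero, add_zero,
      show avg (H l) (L l) (one : G → ℂ) a = 1 from avg_one _ _ a] at h1
    exact_mod_cast h1.symm
  have hconj : ∀ l ψ, c l (conjPerm ψ) = c l ψ := by
    intro l
    have key : ∀ ψ, (∃ j, (Φ l).X j = conjPerm ψ) → ∃ j, (Φ l).X j = ψ := by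
      rintro ψ ⟨j, hj⟩
      by_contra hno
      push Not at hno
      refine exc_ne_const (H l) (L l) (hp l) (hN2 l) j
        ((Φ l).sgn * (c l ψ - c l (conjPerm ψ))) fun a ha ha1 => ?_
      have h1 := hc l (conjPerm ψ) a ha ha1
      have h2 := hc l ψ a ha ha1
      rw [← hj, Family.part_X, hj] at h1
      rw [(Φ l).part_eq_zero hno, mul_zero, add_zero] at h2
      have h3 : avg (H l) (L l) (conjPerm ψ : G → ℂ) a = conj (avg (H l) (L l) (ψ : G → ℂ) a) :=
        avg_conj _ _ _ _
      rw [h1, h2, map_intCast] at h3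
      rcases (Φ l).sgn_eq with hs | hs <;> rw [hs] at h3 ⊢ <;> push_cast at h3 ⊢
      · linear_combination h3
      · linear_combination -h3
    intro ψ
    by_cases hex : ∃ j, (Φ l).X j = ψ
    · obtain ⟨j, rfl⟩ := hex
      obtain ⟨k, hk⟩ := key (conjPerm ((Φ l).X j)) ⟨j, by
        apply Subtype.ext; funext x; simp [conjPerm_apply]⟩
      rw [← hk, hCconst, hCconst]
    · have hex' : ∀ j, (Φ l).X j ≠ conjPerm ψ := fun j hj => hex (key ψ ⟨j, hj⟩)
      push Not at hex
      obtain ⟨a, ha, ha1⟩ := exists_kbar_ne_one (H l) (L l) (hp l)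
      have h1 := hc l (conjPerm ψ) a ha ha1
      have h2 := hc l ψ a ha ha1
      rw [(Φ l).part_eq_zero hex', mul_zero, add_zero] at h1
      rw [(Φ l).part_eq_zero hex, mul_zero, add_zero] at h2
      have h3 : avg (H l) (L l) (conjPerm ψ : G → ℂ) a = conj (avg (H l) (L l) (ψ : G → ℂ) a) :=
        avg_conj _ _ _ _
      rw [h1, h2, map_intCast] at h3
      exact_mod_cast h3
  -- (A) : the parity
  have hA : ∀ l m, l ≠ m → C l m ≠ 0 ∨ C m l ≠ 0 := by
    intro l m hlm
    by_contra hcon
    push Not at hcon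
    obtain ⟨a, ha, ha1⟩ := exists_kbar_ne_one (H l) (L l) (hp l)
    obtain ⟨b, hb', hb1⟩ := exists_kbar_ne_one (H m) (L m) (hp m)
    have h0 : ∑ ψ : IrrCharacter G, avg (H l) (L l) (ψ : G → ℂ) a *
        conj (avg (H m) (L m) (ψ : G → ℂ) b) = 0 := by
      simp only [avg, map_mul, map_inv₀, Complex.conj_natCast, map_sum]
      rw [Finset.sum_congr rfl fun ψ _ => mul_mul_mul_comm _ _ _ _, ← Finset.mul_sum]
      refine mul_eq_zero_of_right _ ?_
      simp only [Finset.sum_mul, Finset.mul_sum]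
      rw [Finset.sum_comm]
      refine Finset.sum_eq_zero fun d' _ => ?_
      rw [Finset.sum_comm]
      refine Finset.sum_eq_zero fun d _ => ?_
      rw [sum_irr_count, Finset.filter_false_of_mem, Finset.card_empty, Nat.cast_zero]
      intro x _ hx
      refine hsep l m hlm _ (rep_mem _ _ ha d) (rep_ne_one _ _ ha1 d) x ?_
      rw [← hx]
      simpa [mul_assoc] using rep_mem (H m) (L m) hb' d'
    have hexp : ∀ ψ : IrrCharacter G, avg (H l) (L l) (ψ : G → ℂ) a *
        conj (avg (H m) (L m) (ψ : G → ℂ) b) = ((c l ψ * c m ψ : ℤ) : ℂ) := by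
      intro ψ
      rw [hc l ψ a ha ha1, hc m ψ b hb' hb1, map_add, map_mul, map_intCast, map_intCast]
      by_cases hl : ∃ j, (Φ l).X j = ψ
      · obtain ⟨j, rfl⟩ := hl
        rw [hpart0 m l hlm.symm, map_zero, mul_zero, add_zero, hCconst m l j, hcon.2]
        push_cast; ring
      · push Not at hl
        rw [(Φ l).part_eq_zero hl, mul_zero, add_zero]
        by_cases hm : ∃ j, (Φ m).X j = ψ
        · obtain ⟨j, rfl⟩ := hm
          rw [hCconst l m j, hcon.1]
          push_cast; ring
        · push Not at hm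
          rw [(Φ m).part_eq_zero hm, map_zero, mul_zero, add_zero]
          push_cast; ring
    rw [Finset.sum_congr rfl fun ψ _ => hexp ψ, ← Int.cast_sum, Int.cast_eq_zero] at h0
    have h2 := congrArg (Int.cast : ℤ → ZMod 2) h0
    rw [Int.cast_sum, Int.cast_zero, ← Finset.add_sum_erase _ _ (Finset.mem_univ one),
      zmod_pairs _ _ (fun ψ hψ => ?_) (fun ψ hψ => ?_) (fun ψ _ => by rw [hconj, hconj]),
      add_zero, hc_one, hc_one] at h2
    · exact absurd h2 (by norm_num)
    · refine Finset.mem_erase.2 ⟨fun h1 => (Finset.mem_erase.1 hψ).1 ?_, Finset.mem_univ _⟩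
      apply Subtype.ext; funext x
      have h3 := congrArg (fun χ : IrrCharacter G => (χ : G → ℂ) x) h1
      have h4 := congrArg conj h3
      simpa [conjPerm_apply, one] using h4
    · intro h1
      refine (Finset.mem_erase.1 hψ).1 (Subtype.ext ?_)
      refine irr_real_of_odd hodd ψ fun x => ?_
      rw [← Complex.conj_eq_iff_im]
      exact congrArg (fun χ : IrrCharacter G => (χ : G → ℂ) x) h1
  -- the squares of the averages of an exceptional character
  have hsgn : ∀ l, ((Φ l).sgn : ℝ) * (Φ l).sgn = 1 := fun l => by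
    rcases (Φ l).sgn_eq with hs | hs <;> rw [hs] <;> norm_num
  have hself : ∀ l, ∀ j : Exc (H l) (L l), ∀ a ∈ kbar (H l) (L l), a ≠ 1 →
      Complex.normSq (avg (H l) (L l) ((Φ l).X j : G → ℂ) a) =
        Complex.normSq ((j.1 : _ → ℂ) a) +
          2 * ((Φ l).sgn : ℝ) * C l l * ((j.1 : _ → ℂ) a).re + (C l l : ℝ) ^ 2 := by
    intro l j a ha ha1
    rw [hc l _ a ha ha1, Family.part_X, hCconst l l j, Complex.normSq_apply, Complex.normSq_apply]
    simp only [Complex.add_re, Complex.add_im, Complex.mul_re, Complex.mul_im, Complex.intCast_re,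
      Complex.intCast_im, zero_mul, sub_zero, zero_add, add_zero]
    linear_combination (((j.1 : _ → ℂ) a).re * ((j.1 : _ → ℂ) a).re +
      ((j.1 : _ → ℂ) a).im * ((j.1 : _ → ℂ) a).im) * hsgn l
  have hsq : ∀ l (z : ℤ), 2 * |((Φ l).sgn : ℝ) * z| ≤ (N l : ℝ) * (z : ℝ) ^ 2 := by
    intro l z
    have h1 : (2 : ℝ) ≤ N l := by exact_mod_cast hN2 l
    have h2 : |((Φ l).sgn : ℝ) * z| = |(z : ℝ)| := by
      rw [abs_mul]
      rcases (Φ l).sgn_eq with hs | hs <;> rw [hs] <;> norm_num
    have h3 : |(z : ℝ)| ≤ (z : ℝ) ^ 2 := by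
      have : |z| ≤ z ^ 2 := by
        rcases eq_or_ne z 0 with rfl | hz
        · norm_num
        · nlinarith [Int.one_le_abs hz, sq_abs z]
      exact_mod_cast this
    rw [h2]; nlinarith [sq_nonneg (z : ℝ)]
  -- (B)
  have hB : ∀ l, ∑ m ∈ Finset.univ.erase l, (N m : ℝ) * (C l m : ℝ) ^ 2 ≤ (e l : ℝ) - 1 := by
    intro l
    obtain ⟨a, ha, ha1⟩ := exists_kbar_ne_one (H l) (L l) (hp l)
    have hg' := avg_gram (H l) (L l) (hp l) ha ha1
    set v : IrrCharacter G → ℝ := fun ψ => Complex.normSq (avg (H l) (L l) (ψ : G → ℂ) a) with hv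
    let f : Option (Σ m, Exc (H m) (L m)) → IrrCharacter G := fun o =>
      o.elim one fun p => (Φ p.1).X p.2
    have hf : Function.Injective f := by
      rintro (_ | ⟨m, j⟩) (_ | ⟨m', j'⟩) hh
      · rfl
      · exact absurd hh.symm (hone_part m' j')
      · exact absurd hh (hone_part m j)
      · rcases eq_or_ne m m' with rfl | hmm
        · have := (Φ m).inj hh; subst this; rfl
        · exact absurd hh (hdisj m m' hmm j j')
    have hle : ∑ o, v (f o) ≤ ∑ ψ, v ψ := by
      rw [← Finset.sum_image (fun x _ y _ h => hf h)]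
      exact Finset.sum_le_univ_sum_of_nonneg fun ψ => Complex.normSq_nonneg _
    rw [Fintype.sum_option, Fintype.sum_sigma, ← Finset.add_sum_erase _ _ (Finset.mem_univ l),
      hg'] at hle
    have h1 : v (f none) = 1 := by
      show Complex.normSq (avg (H l) (L l) (one : G → ℂ) a) = 1
      rw [show avg (H l) (L l) (one : G → ℂ) a = 1 from avg_one _ _ a, map_one]
    have h2 : ∑ j : Exc (H l) (L l), v (f (some ⟨l, j⟩)) ≥ (hb l : ℝ) - e l := by
      show ∑ j : Exc (H l) (L l), Complex.normSq (avg (H l) (L l) ((Φ l).X j : G → ℂ) a) ≥ _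
      rw [Finset.sum_congr rfl fun j _ => hself l j a ha ha1, Finset.sum_add_distrib,
        Finset.sum_add_distrib, ← Finset.mul_sum, ← Complex.re_sum, exc_sum _ _ (hp l) ha ha1,
        exc_sum_sq _ _ (hp l) ha ha1, Finset.sum_const, Finset.card_univ, nsmul_eq_mul]
      have := hsq l (C l l)
      have := le_abs_self (((Φ l).sgn : ℝ) * C l l)
      simp only [Complex.neg_re, Complex.one_re, hb_def, he_def, hN_def] at *
      linarith
    have h3 : ∑ m ∈ Finset.univ.erase l, (N m : ℝ) * (C l m : ℝ) ^ 2 =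
        ∑ m ∈ Finset.univ.erase l, ∑ j : Exc (H m) (L m), v (f (some ⟨m, j⟩)) := by
      refine Finset.sum_congr rfl fun m hm => ?_
      have hlm : l ≠ m := (Finset.ne_of_mem_erase hm).symm
      have : ∀ j : Exc (H m) (L m), v (f (some ⟨m, j⟩)) = (C l m : ℝ) ^ 2 := fun j => by
        show Complex.normSq (avg (H l) (L l) ((Φ m).X j : G → ℂ) a) = _
        rw [hc l _ a ha ha1, hpart0 l m hlm, mul_zero, add_zero, hCconst l m j,
          Complex.normSq_intCast]
        ring
      rw [Finset.sum_congr rfl fun j _ => this j, Finset.sum_const, Finset.card_univ, nsmul_eq_mul]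
    rw [h3]
    simp only [hb_def] at h2
    linarith
  -- sums over G
  have hidx : ∀ i, ((Subgroup.normalizer (H i : Set G)).index : ℝ) =
      (g : ℝ) / ((e i : ℝ) * h i) := fun i => by
    have h1 : h i * e i = Nat.card (L i) := by
      simp only [hh_def, he_def]
      rw [← Nat.card_congr (Subgroup.subgroupOfEquivOfLe (hp i).lt.le).toEquiv,
        Subgroup.card_mul_index]
    have h2 := (L i).card_mul_index
    rw [← h1] at h2
    have h3 : (0 : ℝ) < (e i : ℝ) * h i := by
      have := he3 i; have : 0 < h i := Nat.card_pos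
      positivity
    rw [hN, eq_div_iff h3.ne', hg_def, ← h2]
    push_cast; ring
  have hfilter : ∀ i, ((Finset.univ.filter fun x : G => x ∈ H i ∧ x ≠ 1).card : ℝ) =
      (h i : ℝ) - 1 := fun i => by
    rw [← Finset.filter_filter, Finset.filter_ne', Finset.card_erase_of_mem (by simp [one_mem]),
      Nat.cast_sub (Finset.card_pos.2 ⟨1, by simp [one_mem]⟩), ← Fintype.card_subtype,
      ← Nat.card_eq_fintype_card, Nat.cast_one]
  have hsum : ∑ i, ((h i : ℝ) - 1) / ((e i : ℝ) * h i) = 1 - 1 / (g : ℝ) := by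
    have h1 := sum_over_cover H hcop hTI hcover (fun _ => 1) (fun _ _ => rfl)
    simp only [Finset.sum_const, nsmul_eq_mul, mul_one, Finset.card_univ, ← Nat.card_eq_fintype_card,
      hfilter, hidx] at h1
    rw [← hg_def] at h1
    have h2 : ∑ i, ((h i : ℝ) - 1) / ((e i : ℝ) * h i) * g = (g : ℝ) - 1 := by
      rw [eq_sub_iff_add_eq]
      conv_rhs => rw [h1]
      rw [add_comm]
      congr 1
      exact Finset.sum_congr rfl fun i _ => by ring
    rw [← Finset.sum_mul] at h2
    rw [← eq_div_iff hgR] at h2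
    rw [h2, sub_div, div_self hgR]
  -- (C)
  have hC : ∀ i, ∑ l ∈ Finset.univ.erase i,
      ((hb l : ℝ) - 1) / ((e l : ℝ) * hb l) * (C l i : ℝ) ^ 2 ≤ (e i : ℝ) / hb i := by
    intro i
    set χ : IrrCharacter G := (Φ i).X (j₀ i) with hχ
    have h1 := sum_over_cover H hcop hTI hcover (fun x => Complex.normSq ((χ : G → ℂ) x))
      (fun x y => by rw [isClassFunction_irr χ x y])
    have hnorm : ∑ x, Complex.normSq ((χ : G → ℂ) x) = (g : ℝ) := by
      have h2 := classInner_irr_self χ.2
      rw [classInner, inv_mul_eq_iff_eq_mul₀ (Nat.cast_ne_zero.2 Nat.card_pos.ne'), mul_one] at h2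
      simp only [Complex.mul_conj, ← Complex.ofReal_natCast, ← Complex.ofReal_sum,
        Complex.ofReal_inj] at h2
      exact h2
    set S : ι → ℝ := fun l =>
      ∑ a ∈ Finset.univ.filter (fun a : L l ⧸ der (H l) (L l) => a ∈ kbar (H l) (L l) ∧ a ≠ 1),
        Complex.normSq (avg (H l) (L l) (χ : G → ℂ) a) with hS
    have hterm : ∀ l, (g : ℝ) / ((e l : ℝ) * hb l) * S l ≤
        ((Subgroup.normalizer (H l : Set G)).index : ℝ) *
          ∑ x ∈ Finset.univ.filter (fun x : G => x ∈ H l ∧ x ≠ 1),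
            Complex.normSq ((χ : G → ℂ) x) := by
      intro l
      refine le_trans (le_of_eq ?_) (mul_le_mul_of_nonneg_left
        (avg_norm_le (H l) (L l) (hp l) _) (Nat.cast_nonneg _))
      rw [hidx, hhK l]
      have : (0 : ℝ) < Nat.card (der (H l) (L l)) := Nat.cast_pos.2 Nat.card_pos
      have : (0 : ℝ) < hb l := Nat.cast_pos.2 Nat.card_pos
      have := he3 l
      push_cast
      field_simp
      rw [hS]
    have hle : ∑ l, (g : ℝ) / ((e l : ℝ) * hb l) * S l ≤ g := by
      refine (Finset.sum_le_sum fun l _ => hterm l).trans ?_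
      rw [← hnorm, h1]
      linarith [Complex.normSq_nonneg ((χ : G → ℂ) 1)]
    have hle' : ∑ l, S l / ((e l : ℝ) * hb l) ≤ 1 := by
      rw [← mul_le_iff_le_one_right (show (0 : ℝ) < g from Nat.cast_pos.2 hgpos), Finset.mul_sum]
      refine le_trans (le_of_eq (Finset.sum_congr rfl fun l _ => ?_)) hle
      ring
    have hfk : ∀ l, (Finset.univ.filter fun a : L l ⧸ der (H l) (L l) =>
        a ∈ kbar (H l) (L l) ∧ a ≠ 1) = (Finset.univ.filter (· ∈ kbar (H l) (L l))).erase 1 :=
      fun l => by ext a; simp [and_comm]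
    have hcardk : ∀ l, ((Finset.univ.filter fun a : L l ⧸ der (H l) (L l) =>
        a ∈ kbar (H l) (L l) ∧ a ≠ 1).card : ℝ) = (hb l : ℝ) - 1 := fun l => by
      rw [hfk, Finset.card_erase_of_mem (Finset.mem_filter.2 ⟨Finset.mem_univ _, one_mem _⟩),
        Nat.cast_sub (Finset.card_pos.2 ⟨1, Finset.mem_filter.2 ⟨Finset.mem_univ _, one_mem _⟩⟩),
        ← Fintype.card_subtype,
        ← Nat.card_eq_fintype_card, Nat.cast_one]
    have hSl : ∀ l, l ≠ i → S l = ((hb l : ℝ) - 1) * (C l i : ℝ) ^ 2 := by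
      intro l hli
      rw [hS]
      simp only
      rw [Finset.sum_congr rfl (g := fun _ => (C l i : ℝ) ^ 2) (fun a ha => ?_), Finset.sum_const,
        nsmul_eq_mul, hcardk]
      simp only [Finset.mem_filter, Finset.mem_univ, true_and] at ha
      rw [hc l χ a ha.1 ha.2, hpart0 l i hli, mul_zero, add_zero, Complex.normSq_intCast]
      show (C l i : ℝ) * (C l i : ℝ) = _
      ring
    have hSi : (e i : ℝ) * hb i - (e i : ℝ) ^ 2 ≤ S i := by
      rw [hS]
      simp only
      rw [Finset.sum_congr rfl (fun a ha => hself i (j₀ i) a (Finset.mem_filter.1 ha).2.1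
          (Finset.mem_filter.1 ha).2.2),
        Finset.sum_add_distrib, Finset.sum_add_distrib, Finset.sum_const, nsmul_eq_mul, hcardk,
        ← Finset.mul_sum, ← Complex.re_sum, hfk, Finset.sum_erase_eq_sub (Finset.mem_filter.2 ⟨Finset.mem_univ _, one_mem _⟩),
        Finset.sum_erase_eq_sub (Finset.mem_filter.2 ⟨Finset.mem_univ _, one_mem _⟩)]
      have hz := exc_sum_kbar (H i) (L i) (hp i) (j₀ i)
      have hn2 := exc_norm_kbar (H i) (L i) (hp i) (j₀ i)
      rw [← Finset.sum_subtype (Finset.univ.filter (· ∈ kbar (H i) (L i))) (fun x => by simp)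
        (fun a => ((j₀ i).1 : _ → ℂ) a)] at hz
      rw [← Finset.sum_subtype (Finset.univ.filter (· ∈ kbar (H i) (L i))) (fun x => by simp)
        (fun a => Complex.normSq (((j₀ i).1 : _ → ℂ) a))] at hn2
      rw [hz, hn2, exc_degree _ _ (hp i), Complex.normSq_natCast, zero_sub, Complex.neg_re,
        Complex.natCast_re]
      have h5 := hsq i (C i i)
      have h6 := le_abs_self (((Φ i).sgn : ℝ) * C i i)
      have h7 : (hb i : ℝ) - 1 = N i * e i := by rw [hbN]; push_cast; ring
      simp only [hb_def, he_def] at h7 ⊢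
      have he0 : (0 : ℝ) ≤ (((H i).subgroupOf (L i)).index : ℝ) := Nat.cast_nonneg _
      rw [h7]
      nlinarith
    rw [← Finset.add_sum_erase _ _ (Finset.mem_univ i)] at hle'
    have hpos : ∀ l, (0 : ℝ) < (e l : ℝ) * hb l := fun l => by
      have := he3 l
      have : (0 : ℝ) < hb l := Nat.cast_pos.2 Nat.card_pos
      positivity
    have hi' : 1 - (e i : ℝ) / hb i ≤ S i / ((e i : ℝ) * hb i) := by
      rw [le_div_iff₀ (hpos i)]
      refine le_of_eq_of_le ?_ hSi
      have : (0 : ℝ) < hb i := Nat.cast_pos.2 Nat.card_pos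
      field_simp
    have hrest : ∑ l ∈ Finset.univ.erase i,
        ((hb l : ℝ) - 1) / ((e l : ℝ) * hb l) * (C l i : ℝ) ^ 2 =
        ∑ l ∈ Finset.univ.erase i, S l / ((e l : ℝ) * hb l) :=
      Finset.sum_congr rfl fun l hl => by rw [hSl l (Finset.ne_of_mem_erase hl)]; ring
    rw [hrest]
    linarith
  have hprod : ∀ s : Finset ι, ∏ i ∈ s, h i ≤ g := fun s => Nat.le_of_dvd hgpos
    (Finset.prod_dvd_of_isRelPrime (fun i _ j _ hij =>
      Nat.coprime_iff_isRelPrime.1 (hcop i j hij)) fun i _ => Subgroup.card_subgroup_dvd_card _)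
  have hseven : ∀ i, hb i = 7 → h i = 7 := fun i h7 => by
    rw [hhK, der_eq_bot_of_prime _ _ (hp i) (by
      show (hb i).Prime
      rw [h7]; norm_num), mul_one, h7]
  exact tournament_false e N hb h g C hι heodd he3 hNeven hN2 hbN hbd (fun i => Nat.card_pos)
    hcop hprod hseven hsum hA hB hC

end Cfsg.Agent.CNFinish
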