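import Cfsg.Agent.Lib.Char.TICoherent
import Cfsg.Agent.Lib.Char.Counting
import Cfsg.Agent.S0033

/-!
# Averages of characters over the cosets of the derived group of a TI Frobenius kernel

For a self-centralising TI kernel `H` with normaliser `L`, the average `avg ψ` of a character `ψ` of `G`
over the cosets of `H'` in `L` is, on `(H/H')#`, an integer plus the contribution of the exceptional
characters coming from the characters of `L/H'` not constant on `H/H'`.
-/

set_option autoImplicit false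

namespace Cfsg.Agent.CNFinish

open Cfsg CfsgLib.Char
open scoped ComplexConjugate Classical commutatorElement

variable {G : Type*} [Group G]

/-- `H` is a self-centralising TI kernel with normaliser `L`. -/
structure IsKernelPair (H L : Subgroup G) : Prop where
  lt : H < L
  ne_bot : H ≠ ⊥
  conj_mem : ∀ x ∈ L, ∀ h ∈ H, x * h * x⁻¹ ∈ H
  cent : ∀ h ∈ H, h ≠ 1 → ∀ x ∈ L, x * h = h * x → x ∈ H
  ti : ∀ g : G, g ∉ L → ∀ h ∈ H, g * h * g⁻¹ ∈ H → h = 1

variable (H L : Subgroup G)

/-- The derived group of the kernel. -/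
abbrev der : Subgroup L := ⁅H.subgroupOf L, H.subgroupOf L⁆

theorem IsKernelPair.normal {H L : Subgroup G} (hp : IsKernelPair H L) :
    (H.subgroupOf L).Normal :=
  ⟨fun n hn g => hp.conj_mem g.1 g.2 n.1 hn⟩

variable [(H.subgroupOf L).Normal]

/-- The image of the kernel in `L / H'`. -/
abbrev kbar : Subgroup (L ⧸ der H L) := (H.subgroupOf L).map (QuotientGroup.mk' (der H L))

instance kbar_normal : (kbar H L).Normal :=
  Subgroup.Normal.map inferInstance _ (QuotientGroup.mk'_surjective _)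

theorem der_le : der H L ≤ H.subgroupOf L := Subgroup.commutator_le_self _

theorem mk_mem_kbar (x : L) : QuotientGroup.mk' (der H L) x ∈ kbar H L ↔ (x : G) ∈ H := by
  constructor
  · rintro ⟨y, hy, e⟩
    have h := der_le H L (QuotientGroup.eq.1 e)
    simpa [Subgroup.mem_subgroupOf] using H.mul_mem hy (Subgroup.mem_subgroupOf.1 h)
  · exact fun h => ⟨x, h, rfl⟩

theorem out_mem {a : L ⧸ der H L} (ha : a ∈ kbar H L) : (a.out : G) ∈ H := by
  rw [← mk_mem_kbar H L]
  simpa [QuotientGroup.out_eq'] using ha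

theorem rep_mem {a : L ⧸ der H L} (ha : a ∈ kbar H L) (d : der H L) :
    ((a.out * d : L) : G) ∈ H :=
  H.mul_mem (out_mem H L ha) (der_le H L d.2)

theorem rep_ne_one {a : L ⧸ der H L} (ha1 : a ≠ 1) (d : der H L) :
    ((a.out * d : L) : G) ≠ 1 := by
  intro h
  apply ha1
  have h' : (a.out * d : L) = 1 := Subtype.ext h
  rw [← QuotientGroup.out_eq' a, ← QuotientGroup.mk_mul_of_mem a.out d.2, h']
  rfl

theorem kbar_comm : ∀ a b : kbar H L, a * b = b * a := by
  rintro ⟨_, x, hx, rfl⟩ ⟨_, y, hy, rfl⟩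
  apply Subtype.ext
  show QuotientGroup.mk' _ x * QuotientGroup.mk' _ y = QuotientGroup.mk' _ y * QuotientGroup.mk' _ x
  rw [← map_mul, ← map_mul]
  refine QuotientGroup.eq.2 ?_
  have : (x * y)⁻¹ * (y * x) = ⁅y⁻¹, x⁻¹⁆ := by rw [commutatorElement_def]; group
  rw [this]
  exact Subgroup.commutator_mem_commutator (Subgroup.inv_mem _ hy) (Subgroup.inv_mem _ hx)

variable [Finite G]

theorem kernel_nilpotent (hp : IsKernelPair H L) : Group.IsNilpotent ↥(H.subgroupOf L) := by
  have hne : H.subgroupOf L ≠ ⊤ := fun h => by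
    rw [Subgroup.subgroupOf_eq_top] at h
    exact absurd h hp.lt.not_ge
  obtain ⟨x, hx⟩ : ∃ x : L, x ∉ H.subgroupOf L := by
    by_contra h
    push Not at h
    exact hne ((Subgroup.eq_top_iff' _).2 h)
  have hpow : ∀ n : ℕ, x ^ n ∈ H.subgroupOf L → x ^ n = 1 := by
    intro n hn
    by_contra h1
    refine hx (hp.cent _ hn (fun h => h1 (Subtype.ext h)) x x.2 ?_)
    exact congrArg Subtype.val ((Commute.refl x).pow_right n).eq
  have ho1 : orderOf x ≠ 1 := fun h => hx (by rw [orderOf_eq_one_iff.1 h]; exact one_mem _)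
  obtain ⟨r, hr, hrd⟩ := Nat.exists_prime_and_dvd ho1
  obtain ⟨s, hs⟩ := hrd
  have hy : orderOf (x ^ s) = r := by
    have hspos : 0 < s := Nat.pos_of_ne_zero fun h0 => by
      have := orderOf_pos x; rw [hs, h0, mul_zero] at this; omega
    rw [orderOf_pow, hs, Nat.gcd_eq_right (Dvd.intro_left r rfl),
      Nat.mul_div_cancel _ hspos]
  have hyK : x ^ s ∉ H.subgroupOf L := fun h => by
    rw [hpow s h, orderOf_one] at hy
    exact hr.ne_one hy.symm
  let φ : MulAut (H.subgroupOf L) := MulAut.conjNormal (x ^ s)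
  have hφr : φ ^ r = 1 := by
    rw [← map_pow, ← hy, pow_orderOf_eq_one, map_one]
  have hfix : ∀ k, φ k = k → k = 1 := by
    intro k hk
    by_contra h1
    refine hyK (hp.cent _ k.2 (fun h => h1 (Subtype.ext (Subtype.ext h))) _ (x ^ s).2 ?_)
    have h2 : x ^ s * k.1 * (x ^ s)⁻¹ = k.1 := Subtype.ext_iff.1 hk
    exact congrArg Subtype.val (mul_inv_eq_iff_eq_mul.1 h2)
  have := Fact.mk hr
  refine Cfsg.Agent.S0033.result φ (fun g h => hfix g h) r hr (orderOf_eq_prime hφr fun h1 => ?_)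
  obtain ⟨k, hk, hk1⟩ := H.ne_bot_iff_exists_ne_one.1 hp.ne_bot |> fun ⟨k, hk⟩ =>
    (⟨k.1, k.2, fun h => hk (Subtype.ext h)⟩ : ∃ k, k ∈ H ∧ k ≠ 1)
  have := hfix ⟨⟨k, hp.lt.le hk⟩, hk⟩ (by rw [h1]; rfl)
  exact hk1 (congrArg (fun z : H.subgroupOf L => ((z : L) : G)) this)

theorem exists_kbar_ne_one (hp : IsKernelPair H L) : ∃ a ∈ kbar H L, a ≠ 1 := by
  have := kernel_nilpotent H L hp
  have : Nontrivial ↥(H.subgroupOf L) := by
    obtain ⟨k, hk⟩ := Subgroup.ne_bot_iff_exists_ne_one.1 hp.ne_bot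
    exact ⟨⟨⟨⟨k.1, hp.lt.le k.2⟩, k.2⟩, 1, fun h => hk (Subtype.ext
      (congrArg (fun z : H.subgroupOf L => ((z : L) : G)) h))⟩⟩
  have hlt := IsSolvable.commutator_lt_top_of_nontrivial (G := ↥(H.subgroupOf L))
  obtain ⟨k, -, hk⟩ := SetLike.exists_of_lt hlt
  refine ⟨_, Subgroup.mem_map_of_mem _ k.2, fun h => hk ?_⟩
  have h' : (k : L) ∈ der H L := (QuotientGroup.eq_one_iff _).1 h
  rw [der, ← Subgroup.map_subtype_commutator] at h'
  obtain ⟨k', hk', e⟩ := h'
  rwa [← Subtype.ext e]

theorem kbar_cent (hp : IsKernelPair H L) :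
    ∀ a ∈ kbar H L, a ≠ 1 → ∀ y, y * a = a * y → y ∈ kbar H L := by
  rintro _ ⟨k, hk, rfl⟩ ha y hy
  obtain ⟨x, rfl⟩ := QuotientGroup.mk'_surjective _ y
  by_contra hx
  rw [mk_mem_kbar] at hx
  -- `k ↦ k⁻¹ x k x⁻¹` is injective on the kernel
  have hinj : ∀ u v : L, (u : G) ∈ H → (v : G) ∈ H → u⁻¹ * (x * u * x⁻¹) = v⁻¹ * (x * v * x⁻¹) →
      u = v := by
    intro u v hu hv h
    by_contra hne
    refine hx (hp.cent ((v * u⁻¹ : L) : G) (H.mul_mem hv (H.inv_mem hu)) ?_ x x.2 ?_)
    · exact fun h1 => hne (mul_inv_eq_one.1 (Subtype.ext h1 : v * u⁻¹ = 1)).symm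
    · have h2 : x * (v * u⁻¹) = v * u⁻¹ * x := by
        calc x * (v * u⁻¹) = v * (v⁻¹ * (x * v * x⁻¹)) * (x * u⁻¹) := by group
          _ = v * (u⁻¹ * (x * u * x⁻¹)) * (x * u⁻¹) := by rw [h]
          _ = v * u⁻¹ * x := by group
      exact congrArg Subtype.val h2
  have : Finite (der H L) := inferInstance
  have hDn : (der H L).Normal := inferInstance
  let f : der H L → der H L := fun d =>
    ⟨d.1⁻¹ * (x * d.1 * x⁻¹), mul_mem (inv_mem d.2) (hDn.conj_mem _ d.2 x)⟩
  have hf : Function.Surjective f := Finite.injective_iff_surjective.1 fun a b h =>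
    Subtype.ext (hinj a b (der_le H L a.2) (der_le H L b.2) (Subtype.ext_iff.1 h))
  have hd : k⁻¹ * (x * k * x⁻¹) ∈ der H L := by
    rw [← QuotientGroup.eq_one_iff]
    show QuotientGroup.mk' (der H L) (k⁻¹ * (x * k * x⁻¹)) = 1
    rw [map_mul, map_mul, map_mul, map_inv, map_inv, hy]
    group
  obtain ⟨d, hd'⟩ := hf ⟨_, hd⟩
  have hkd := hinj d k (der_le H L d.2) hk (Subtype.ext_iff.1 hd')
  exact ha ((QuotientGroup.eq_one_iff _).2 (hkd ▸ d.2))

theorem kbar_index : (kbar H L).index = (H.subgroupOf L).index :=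
  Subgroup.index_map_eq _ (QuotientGroup.mk'_surjective _) (by
    rw [QuotientGroup.ker_mk']; exact der_le H L)

theorem card_kernel : Nat.card (H.subgroupOf L) = Nat.card (kbar H L) * Nat.card (der H L) := by
  have h1 := (kbar H L).card_mul_index
  have h2 := (H.subgroupOf L).card_mul_index
  have h3 := Subgroup.card_eq_card_quotient_mul_card_subgroup (der H L)
  rw [kbar_index] at h1
  refine Nat.eq_of_mul_eq_mul_right
    (Nat.pos_of_ne_zero (Subgroup.index_ne_zero_of_finite (H := H.subgroupOf L))) ?_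
  rw [h2, h3, ← h1]; ring

/-- The characters of `L / H'` that are not constant on `H / H'`. -/
abbrev Exc : Type _ :=
  {χ : IrrCharacter (L ⧸ der H L) // ∃ k, k ∈ kbar H L ∧ (χ : L ⧸ der H L → ℂ) k ≠
    (χ : L ⧸ der H L → ℂ) 1}

variable [Fintype (L ⧸ der H L)] [Fintype (Exc H L)]

theorem exc_degree (hp : IsKernelPair H L) (j : Exc H L) :
    (j.1 : L ⧸ der H L → ℂ) 1 = ((H.subgroupOf L).index : ℂ) := by
  rw [degree_of_nonconstant (kbar H L) (kbar_cent H L hp) (kbar_comm H L) j.1.2 j.2, kbar_index]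

theorem sum_split {M : Type*} [AddCommMonoid M] (f : IrrCharacter (L ⧸ der H L) → M) :
    ∑ ξ, f ξ = (∑ j : Exc H L, f j.1) + ∑ ξ : IrrCharacter (L ⧸ der H L), (if (∃ k, k ∈ kbar H L ∧ (ξ : L ⧸ der H L → ℂ) k ≠
      (ξ : L ⧸ der H L → ℂ) 1) then 0 else f ξ) := by
  rw [Finset.sum_ite, Finset.sum_const_zero, zero_add,
    ← Finset.sum_filter_add_sum_filter_not Finset.univ
      (fun ξ : IrrCharacter (L ⧸ der H L) => ∃ k, k ∈ kbar H L ∧ (ξ : L ⧸ der H L → ℂ) k ≠
        (ξ : L ⧸ der H L → ℂ) 1) f]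
  congr 1
  exact (Finset.sum_subtype _ (fun ξ => by simp) f)

theorem card_exc (hp : IsKernelPair H L) :
    Nat.card (kbar H L) = Fintype.card (Exc H L) * (H.subgroupOf L).index + 1 := by
  have hs := sum_sq_degree (G := L ⧸ der H L)
  rw [sum_split H L] at hs
  have hc := TIKernel.sum_sq_constant (kbar H L)
  simp only [sq] at hs
  rw [hc, kbar_index, Finset.sum_congr rfl (fun j _ => by rw [exc_degree H L hp j]),
    Finset.sum_const, Finset.card_univ, nsmul_eq_mul] at hs
  have h1 : Nat.card (L ⧸ der H L) = Nat.card (kbar H L) * (H.subgroupOf L).index := by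
    rw [← (kbar H L).card_mul_index, kbar_index]
  have h2 : Fintype.card (Exc H L) * ((H.subgroupOf L).index * (H.subgroupOf L).index) +
      (H.subgroupOf L).index = Nat.card (L ⧸ der H L) := by exact_mod_cast hs
  refine Nat.eq_of_mul_eq_mul_right
    (Nat.pos_of_ne_zero (Subgroup.index_ne_zero_of_finite (H := H.subgroupOf L))) ?_
  rw [← h1, ← h2]; ring

theorem exc_sum (hp : IsKernelPair H L) {a : L ⧸ der H L} (ha : a ∈ kbar H L) (ha1 : a ≠ 1) :
    ∑ j : Exc H L, (j.1 : L ⧸ der H L → ℂ) a = -1 := by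
  have hs := sum_degree_mul_irr a
  rw [if_neg ha1, sum_split H L] at hs
  have hc : (∑ ξ : IrrCharacter (L ⧸ der H L), if (∃ k, k ∈ kbar H L ∧
      (ξ : L ⧸ der H L → ℂ) k ≠ (ξ : L ⧸ der H L → ℂ) 1) then 0 else
      (ξ : L ⧸ der H L → ℂ) 1 * (ξ : L ⧸ der H L → ℂ) a) = ((H.subgroupOf L).index : ℂ) := by
    rw [← kbar_index, ← TIKernel.sum_sq_constant (kbar H L)]
    refine Finset.sum_congr rfl fun ξ _ => ?_
    split_ifs with h
    · rfl
    · push Not at h
      rw [h a ha]
  rw [hc, Finset.sum_congr rfl (fun j _ => by rw [exc_degree H L hp j]), ← Finset.mul_sum] at hs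
  have hne : ((H.subgroupOf L).index : ℂ) ≠ 0 :=
    Nat.cast_ne_zero.2 Subgroup.index_ne_zero_of_finite
  have : ((H.subgroupOf L).index : ℂ) * ((∑ j : Exc H L, (j.1 : L ⧸ der H L → ℂ) a) + 1) = 0 := by
    linear_combination hs
  exact eq_neg_of_add_eq_zero_left ((mul_eq_zero.1 this).resolve_left hne)

theorem exc_sum_sq (hp : IsKernelPair H L) {a : L ⧸ der H L} (ha : a ∈ kbar H L) (ha1 : a ≠ 1) :
    ∑ j : Exc H L, Complex.normSq ((j.1 : L ⧸ der H L → ℂ) a) =
      (Nat.card (kbar H L) : ℝ) - (H.subgroupOf L).index := by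
  have hs := column_orthogonality a a
  rw [if_pos (IsConj.refl a), sum_split H L] at hs
  have hcent : Subgroup.centralizer ({a} : Set (L ⧸ der H L)) = kbar H L := by
    ext y
    rw [Subgroup.mem_centralizer_singleton_iff]
    exact ⟨fun h => kbar_cent H L hp a ha ha1 y h, fun h => congrArg Subtype.val
      (kbar_comm H L ⟨y, h⟩ ⟨a, ha⟩)⟩
  have hc : (∑ ξ : IrrCharacter (L ⧸ der H L), if (∃ k, k ∈ kbar H L ∧
      (ξ : L ⧸ der H L → ℂ) k ≠ (ξ : L ⧸ der H L → ℂ) 1) then 0 else
      (ξ : L ⧸ der H L → ℂ) a * conj ((ξ : L ⧸ der H L → ℂ) a)) =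
        ((H.subgroupOf L).index : ℂ) := by
    rw [← kbar_index, ← TIKernel.sum_sq_constant (kbar H L)]
    refine Finset.sum_congr rfl fun ξ _ => ?_
    split_ifs with h
    · rfl
    · push Not at h
      obtain ⟨d, -, hd⟩ := exists_nat_degree_irr ξ.2
      rw [h a ha, hd, Complex.conj_natCast]
  rw [hc, hcent] at hs
  simp only [Complex.mul_conj, ← Complex.ofReal_natCast, ← Complex.ofReal_sum,
    ← Complex.ofReal_add, Complex.ofReal_inj] at hs
  linarith

/-- Lifting to `L` a character of `L / H'`. -/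
noncomputable def infl (j : Exc H L) : L → ℂ :=
  fun x => (j.1 : L ⧸ der H L → ℂ) (QuotientGroup.mk' (der H L) x)

theorem infl_irr (j : Exc H L) : IsIrrCharacter L (infl H L j) :=
  isIrrCharacter_comp (QuotientGroup.mk'_surjective _) j.1.2

theorem infl_vanish (hp : IsKernelPair H L) (j : Exc H L) {x : L} (hx : (x : G) ∉ H) :
    infl H L j x = 0 :=
  vanish_off_of_nonconstant (kbar H L) (kbar_cent H L hp) j.1.2 j.2
    (fun h => hx ((mk_mem_kbar H L x).1 h))

theorem infl_one (hp : IsKernelPair H L) (j : Exc H L) :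
    infl H L j 1 = ((H.subgroupOf L).index : ℂ) := by
  rw [infl, map_one]; exact exc_degree H L hp j

theorem exc_ne_const (hp : IsKernelPair H L) (h2 : 2 ≤ Fintype.card (Exc H L)) (j : Exc H L)
    (w : ℤ) : ¬ ∀ a ∈ kbar H L, a ≠ 1 → (j.1 : L ⧸ der H L → ℂ) a = w := by
  intro hw
  have hs := TIKernel.sum_eq_zero_of_nonconstant (kbar H L) j.1.2 j.2
  rw [Fintype.sum_eq_add_sum_subtype_ne _ (1 : kbar H L),
    Finset.sum_congr rfl (fun (a : {a : kbar H L // a ≠ 1}) _ =>
      hw a.1.1 a.1.2 (fun h => a.2 (Subtype.ext h))),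
    Finset.sum_const, Finset.card_univ, nsmul_eq_mul, Fintype.card_subtype_compl,
    Fintype.card_subtype_eq, ← Nat.card_eq_fintype_card, card_exc H L hp] at hs
  rw [OneMemClass.coe_one, exc_degree H L hp, Nat.add_sub_cancel] at hs
  have h3 : ((H.subgroupOf L).index : ℤ) * (1 + Fintype.card (Exc H L) * w) = 0 := by
    have : (((H.subgroupOf L).index : ℤ) * (1 + Fintype.card (Exc H L) * w) : ℂ) = 0 := by
      push_cast at hs ⊢
      linear_combination hs
    exact_mod_cast this
  have h4 := (mul_eq_zero.1 h3).resolve_left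
    (Nat.cast_ne_zero.2 Subgroup.index_ne_zero_of_finite)
  have : (Fintype.card (Exc H L) : ℤ) ∣ 1 := ⟨-w, by linarith⟩
  have := Int.le_of_dvd one_pos this
  omega

theorem exc_sum_kbar (hp : IsKernelPair H L) (j : Exc H L) :
    ∑ a : kbar H L, (j.1 : L ⧸ der H L → ℂ) a = 0 :=
  TIKernel.sum_eq_zero_of_nonconstant (kbar H L) j.1.2 j.2

theorem exc_norm_kbar (hp : IsKernelPair H L) (j : Exc H L) :
    ∑ a : kbar H L, Complex.normSq ((j.1 : L ⧸ der H L → ℂ) a) =
      ((H.subgroupOf L).index : ℝ) * Nat.card (kbar H L) := by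
  have h := classInner_irr_self j.1.2
  rw [classInner, inv_mul_eq_iff_eq_mul₀ (Nat.cast_ne_zero.2 Nat.card_pos.ne'), mul_one] at h
  simp only [Complex.mul_conj, ← Complex.ofReal_natCast, ← Complex.ofReal_sum,
    Complex.ofReal_inj] at h
  rw [← (kbar H L).card_mul_index, kbar_index, Nat.cast_mul] at h
  rw [mul_comm, ← h]
  rw [← Finset.sum_subtype (Finset.univ.filter (· ∈ kbar H L)) (fun x => by simp)
    (fun a => Complex.normSq ((j.1 : L ⧸ der H L → ℂ) a))]
  refine Finset.sum_filter_of_ne fun a _ ha => ?_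
  by_contra hn
  rw [vanish_off_of_nonconstant (kbar H L) (kbar_cent H L hp) j.1.2 j.2 hn] at ha
  simp at ha

/-! ### Coset averages -/

variable [Fintype (der H L)]

/-- The average over a coset of `H'`. -/
noncomputable def avg (ψ : G → ℂ) : L ⧸ der H L → ℂ :=
  fun q => (Nat.card (der H L) : ℂ)⁻¹ * ∑ d : der H L, ψ ((q.out * d : L) : G)

theorem avg_mk (ψ : G → ℂ) (x : L) :
    avg H L ψ (QuotientGroup.mk' (der H L) x) =
      (Nat.card (der H L) : ℂ)⁻¹ * ∑ d : der H L, ψ ((x * d : L) : G) := by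
  show _ * _ = _ * _
  congr 1
  set y := (QuotientGroup.mk' (der H L) x).out with hy
  have hd : x⁻¹ * y ∈ der H L := QuotientGroup.eq.1 (by rw [hy]; exact (QuotientGroup.out_eq' _).symm)
  exact Fintype.sum_equiv (Equiv.mulLeft (⟨_, hd⟩ : der H L)) _ _ fun d => by
    show ψ _ = ψ ((x * (x⁻¹ * y * d) : L) : G)
    rw [← mul_assoc, ← mul_assoc, mul_inv_cancel, one_mul]

theorem avg_conj (ψ : G → ℂ) (q : L ⧸ der H L) :
    avg H L (fun g => conj (ψ g)) q = conj (avg H L ψ q) := by
  simp [avg, map_sum]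

theorem avg_one (q : L ⧸ der H L) : avg H L (fun _ => 1) q = 1 := by
  simp [avg, Finset.sum_const, Nat.card_eq_fintype_card]

theorem avg_classFun {ψ : G → ℂ} (hψ : IsClassFunction G ψ) :
    IsClassFunction (L ⧸ der H L) (avg H L ψ) := by
  intro q r
  obtain ⟨x, rfl⟩ := QuotientGroup.mk'_surjective _ q
  obtain ⟨y, rfl⟩ := QuotientGroup.mk'_surjective _ r
  rw [← map_inv, ← map_mul, ← map_mul, avg_mk, avg_mk]
  congr 1
  have hDn : (der H L).Normal := inferInstance
  refine (Fintype.sum_equiv (MulAut.conjNormal (H := der H L) y).toEquiv _ _ fun d => ?_).symm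
  show _ = ψ ((y * x * y⁻¹ * (y * d * y⁻¹) : L) : G)
  rw [show y * x * y⁻¹ * (y * (d : L) * y⁻¹) = y * (x * d) * y⁻¹ by group]
  simp only [Subgroup.coe_mul, Subgroup.coe_inv]
  rw [hψ]

variable [Fintype L]

theorem classInner_avg (ψ : G → ℂ) (ξ : L ⧸ der H L → ℂ) :
    classInner (avg H L ψ) ξ =
      classInner (fun x : L => ψ x) (fun x : L => ξ (QuotientGroup.mk' (der H L) x)) := by
  have hc := Subgroup.card_eq_card_quotient_mul_card_subgroup (der H L)
  simp only [classInner]
  rw [hc, Nat.cast_mul, mul_inv, mul_assoc]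
  congr 1
  rw [Finset.mul_sum]
  rw [← Fintype.sum_fiberwise (fun x : L => QuotientGroup.mk' (der H L) x)
    (fun x : L => (Nat.card (der H L) : ℂ)⁻¹ *
      (ψ x * conj (ξ (QuotientGroup.mk' (der H L) x))))]
  refine Finset.sum_congr rfl fun q _ => ?_
  rw [avg, mul_assoc, Finset.sum_mul, Finset.mul_sum]
  refine Fintype.sum_equiv
    { toFun := fun d : der H L => (⟨q.out * d, by
        show ((q.out * d : L) : L ⧸ der H L) = q
        rw [QuotientGroup.mk_mul_of_mem _ d.2, QuotientGroup.out_eq']⟩ :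
          {x : L // QuotientGroup.mk' (der H L) x = q})
      invFun := fun x => ⟨q.out⁻¹ * x.1, QuotientGroup.eq.1 (by
        rw [QuotientGroup.out_eq']; exact x.2.symm)⟩
      left_inv := fun d => Subtype.ext (by simp)
      right_inv := fun x => Subtype.ext (by simp) } _ _ fun d => ?_
  have e : QuotientGroup.mk' (der H L) (q.out * d) = q := by
    show ((q.out * d : L) : L ⧸ der H L) = q
    rw [QuotientGroup.mk_mul_of_mem _ d.2, QuotientGroup.out_eq']
  show _ * (ψ ((q.out * d : L) : G) * conj (ξ q)) =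
    _ * (ψ ((q.out * d : L) : G) * conj (ξ (QuotientGroup.mk' (der H L) (q.out * d))))
  rw [e]

variable [Fintype G]

/-- A system of exceptional characters of the kernel. -/
structure Family where
  sgn : ℤ
  sgn_eq : sgn = 1 ∨ sgn = -1
  X : Exc H L → IrrCharacter G
  inj : Function.Injective X
  diff : ∀ j k : Exc H L, indFun L (infl H L j) - indFun L (infl H L k) =
    (sgn : ℂ) • ((X j : G → ℂ) - (X k : G → ℂ))

theorem exists_family (hp : IsKernelPair H L) (j₀ : Exc H L) : Nonempty (Family H L) := by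
  obtain ⟨ε, hε, θ, hθ, hθi, hd⟩ := exceptional_of_ti L (H : Set G)
    (fun g hg t ht h => hp.ti g hg t ht h) j₀ (infl H L) (infl_irr H L)
    (fun j k h => by
      apply Subtype.ext; apply Subtype.ext; funext q
      obtain ⟨x, rfl⟩ := QuotientGroup.mk'_surjective _ q
      exact congrFun h x)
    (fun j k x hx => by rw [infl_vanish H L hp j hx, infl_vanish H L hp k hx])
    (fun j k => by rw [infl_one H L hp, infl_one H L hp])
  obtain ⟨n, hn, rfl⟩ : ∃ n : ℤ, (n = 1 ∨ n = -1) ∧ ε = n := by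
    rcases hε with rfl | rfl
    · exact ⟨1, Or.inl rfl, by simp⟩
    · exact ⟨-1, Or.inr rfl, by simp⟩
  exact ⟨⟨n, hn, fun j => ⟨θ j, hθ j⟩, fun j k h => hθi (Subtype.ext_iff.1 h), hd⟩⟩

variable {H L}

/-- The contribution of the exceptional characters to an average. -/
noncomputable def Family.part (Φ : Family H L) (ψ : IrrCharacter G) (a : L ⧸ der H L) : ℂ :=
  ∑ j : Exc H L, if Φ.X j = ψ then (j.1 : L ⧸ der H L → ℂ) a else 0

theorem Family.part_X (Φ : Family H L) (j : Exc H L) (a : L ⧸ der H L) :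
    Φ.part (Φ.X j) a = (j.1 : L ⧸ der H L → ℂ) a := by
  unfold Family.part
  rw [Finset.sum_eq_single j (fun k _ hk => if_neg fun h => hk (Φ.inj h))
    (fun h => absurd (Finset.mem_univ j) h), if_pos rfl]

theorem Family.part_eq_zero (Φ : Family H L) {ψ : IrrCharacter G} (h : ∀ j, Φ.X j ≠ ψ)
    (a : L ⧸ der H L) : Φ.part ψ a = 0 :=
  Finset.sum_eq_zero fun j _ => if_neg (h j)

/-- On the nonidentity part of `H / H'` an average is an integer plus the exceptional part. -/
theorem Family.avg_value (Φ : Family H L) (hp : IsKernelPair H L) (j₀ : Exc H L)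
    (ψ : IrrCharacter G) :
    ∃ c : ℤ, ∀ a ∈ kbar H L, a ≠ 1 →
      avg H L (ψ : G → ℂ) a = c + (Φ.sgn : ℂ) * Φ.part ψ a := by
  have hcl := isClassFunction_irr ψ
  choose m hm using fun ξ : IrrCharacter (L ⧸ der H L) =>
    exists_int_classInner
      (isGeneralized_restrict L (isGeneralized_of_isIrr ψ.2))
      (isGeneralized_of_isIrr (isIrrCharacter_comp
        (QuotientGroup.mk'_surjective (der H L)) ξ.2))
  choose dg hdg0 hdg using fun ξ : IrrCharacter (L ⧸ der H L) => exists_nat_degree_irr ξ.2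
  have hdiff : ∀ j k : Exc H L, (m j.1 : ℂ) - m k.1 =
      (Φ.sgn : ℂ) * ((if Φ.X j = ψ then 1 else 0) - (if Φ.X k = ψ then 1 else 0)) := by
    intro j k
    rw [← hm j.1, ← hm k.1]
    have h := congrArg (classInner (ψ : G → ℂ)) (Φ.diff j k)
    rw [classInner_sub_right, frobenius_reciprocity' L _ hcl, frobenius_reciprocity' L _ hcl,
      classInner_smul_right, classInner_sub_right, classInner_irr ψ.2 (Φ.X j).2,
      classInner_irr ψ.2 (Φ.X k).2, map_intCast] at h
    simp only [← Subtype.ext_iff, eq_comm (a := ψ)] at h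
    exact h
  refine ⟨(∑ ξ : IrrCharacter (L ⧸ der H L), if (∃ k, k ∈ kbar H L ∧
      (ξ : L ⧸ der H L → ℂ) k ≠ (ξ : L ⧸ der H L → ℂ) 1) then 0 else m ξ * dg ξ)
    - (m j₀.1 - Φ.sgn * (if Φ.X j₀ = ψ then 1 else 0)), fun a ha ha1 => ?_⟩
  have he := congrFun (classFunction_expansion (avg_classFun H L hcl)) a
  rw [Finset.sum_apply] at he
  rw [he]
  simp only [Pi.smul_apply, smul_eq_mul, classInner_avg, hm]
  rw [sum_split H L]
  have h1 : ∀ j : Exc H L, (m j.1 : ℂ) * (j.1 : L ⧸ der H L → ℂ) a =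
      ((m j₀.1 : ℂ) - Φ.sgn * (if Φ.X j₀ = ψ then 1 else 0)) * (j.1 : L ⧸ der H L → ℂ) a +
      (Φ.sgn : ℂ) * (if Φ.X j = ψ then (j.1 : L ⧸ der H L → ℂ) a else 0) := by
    intro j
    have h := hdiff j j₀
    by_cases hj : Φ.X j = ψ
    · rw [if_pos hj] at h ⊢
      linear_combination (j.1 : L ⧸ der H L → ℂ) a * h
    · rw [if_neg hj] at h ⊢
      linear_combination (j.1 : L ⧸ der H L → ℂ) a * h
  rw [Finset.sum_congr rfl fun j _ => h1 j, Finset.sum_add_distrib, ← Finset.mul_sum,
    ← Finset.mul_sum, exc_sum H L hp ha ha1]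
  have h2 : (∑ ξ : IrrCharacter (L ⧸ der H L), if (∃ k, k ∈ kbar H L ∧
      (ξ : L ⧸ der H L → ℂ) k ≠ (ξ : L ⧸ der H L → ℂ) 1) then 0 else
        (m ξ : ℂ) * (ξ : L ⧸ der H L → ℂ) a) =
      ((∑ ξ : IrrCharacter (L ⧸ der H L), if (∃ k, k ∈ kbar H L ∧
      (ξ : L ⧸ der H L → ℂ) k ≠ (ξ : L ⧸ der H L → ℂ) 1) then 0 else m ξ * dg ξ : ℤ) : ℂ) := by
    rw [Int.cast_sum]
    refine Finset.sum_congr rfl fun ξ _ => ?_
    split_ifs with h
    · simp
    · push Not at h
      rw [h a ha, hdg]; push_cast; ring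
  rw [h2]
  unfold Family.part
  split_ifs <;> push_cast <;> ring

variable (H L)

/-- The second orthogonality relation as a count. -/
theorem sum_irr_count (u y : G) :
    ∑ ψ : IrrCharacter G, (ψ : G → ℂ) u * conj ((ψ : G → ℂ) y) =
      ((Finset.univ.filter fun g : G => g * y * g⁻¹ = u).card : ℂ) := by
  rw [column_orthogonality]
  split_ifs with h
  · obtain ⟨c, hc⟩ := isConj_iff.1 h.symm
    rw [← Fintype.card_subtype, ← Nat.card_eq_fintype_card]
    congr 1
    refine Nat.card_congr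
      { toFun := fun z => ⟨c * z.1, ?_⟩
        invFun := fun g => ⟨c⁻¹ * g.1, ?_⟩
        left_inv := fun z => Subtype.ext (inv_mul_cancel_left c z.1)
        right_inv := fun g => Subtype.ext (mul_inv_cancel_left c g.1) }
    · have hz := Subgroup.mem_centralizer_singleton_iff.1 z.2
      rw [mul_inv_rev, mul_assoc c z.1 y, hz, ← hc]
      group
    · rw [Subgroup.mem_centralizer_singleton_iff, mul_assoc]
      have hg := g.2
      calc c⁻¹ * (g.1 * y) = c⁻¹ * (g.1 * y * g.1⁻¹) * g.1 := by group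
        _ = c⁻¹ * u * g.1 := by rw [hg]
        _ = c⁻¹ * (c * y * c⁻¹) * g.1 := by rw [hc]
        _ = y * (c⁻¹ * g.1) := by group
  · rw [Finset.filter_false_of_mem, Finset.card_empty, Nat.cast_zero]
    exact fun g _ hg => h (isConj_iff.2 ⟨g, hg⟩).symm

theorem avg_gram (hp : IsKernelPair H L) {a : L ⧸ der H L} (ha : a ∈ kbar H L) (ha1 : a ≠ 1) :
    ∑ ψ : IrrCharacter G, Complex.normSq (avg H L (ψ : G → ℂ) a) = Nat.card (kbar H L) := by
  have hD : (Nat.card (der H L) : ℂ) ≠ 0 := Nat.cast_ne_zero.2 Nat.card_pos.ne'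
  have hcount : ∀ d' : der H L, (∑ d : der H L, ((Finset.univ.filter fun g : G =>
      g * ((a.out * d' : L) : G) * g⁻¹ = ((a.out * d : L) : G)).card : ℂ)) =
      (Nat.card (kbar H L) : ℂ) * Nat.card (der H L) := by
    intro d'
    rw [← Nat.cast_sum, ← Nat.cast_mul, ← card_kernel H L]
    congr 1
    rw [← Finset.card_biUnion]
    · rw [Nat.card_congr (Subgroup.subgroupOfEquivOfLe hp.lt.le).toEquiv,
        Nat.card_eq_fintype_card, Fintype.card_subtype]
      congr 1
      ext g
      simp only [Finset.mem_biUnion, Finset.mem_filter, Finset.mem_univ, true_and]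
      constructor
      · rintro ⟨d, hd⟩
        have hgL : g ∈ L := by
          by_contra hgL
          exact rep_ne_one H L ha1 d' (hp.ti g hgL _ (rep_mem H L ha d') (hd ▸ rep_mem H L ha d))
        have hL : (⟨g, hgL⟩ : L) * (a.out * d') * (⟨g, hgL⟩ : L)⁻¹ = a.out * d := Subtype.ext hd
        have hq := congrArg (QuotientGroup.mk' (der H L)) hL
        rw [map_mul, map_mul, map_inv] at hq
        have e : ∀ z : der H L, QuotientGroup.mk' (der H L) (a.out * z) = a := fun z => by
          show ((a.out * z : L) : L ⧸ der H L) = a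
          rw [QuotientGroup.mk_mul_of_mem _ z.2, QuotientGroup.out_eq']
        rw [e, e, mul_inv_eq_iff_eq_mul] at hq
        exact (mk_mem_kbar H L ⟨g, hgL⟩).1 (kbar_cent H L hp a ha ha1 _ hq)
      · intro hg
        refine ⟨⟨a.out⁻¹ * ((⟨g, hp.lt.le hg⟩ : L) * (a.out * d') * (⟨g, hp.lt.le hg⟩ : L)⁻¹), ?_⟩,
          ?_⟩
        · refine QuotientGroup.eq.1 ?_
          rw [QuotientGroup.out_eq']
          show a = QuotientGroup.mk' (der H L) _
          have hk := congrArg Subtype.val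
            (kbar_comm H L ⟨_, (mk_mem_kbar H L ⟨g, hp.lt.le hg⟩).2 hg⟩ ⟨a, ha⟩)
          have e : QuotientGroup.mk' (der H L) (a.out * d') = a := by
            show ((a.out * d' : L) : L ⧸ der H L) = a
            rw [QuotientGroup.mk_mul_of_mem _ d'.2, QuotientGroup.out_eq']
          rw [map_mul, map_mul, map_inv, e]
          simp only [Subgroup.coe_mul] at hk
          rw [hk, mul_inv_cancel_right]
        · show _ = ((a.out * (a.out⁻¹ * _) : L) : G)
          rw [mul_inv_cancel_left]; rfl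
    · intro d _ e _ hde
      rw [Function.onFun, Finset.disjoint_left]
      intro g hg hg'
      simp only [Finset.mem_filter, Finset.mem_univ, true_and] at hg hg'
      exact hde (Subtype.ext (mul_left_cancel (Subtype.ext (hg.symm.trans hg'))))
  apply Complex.ofReal_injective
  rw [Complex.ofReal_sum, Complex.ofReal_natCast,
    Finset.sum_congr rfl fun ψ _ => (Complex.mul_conj _).symm]
  simp only [avg, map_mul, map_inv₀, Complex.conj_natCast, map_sum]
  rw [Finset.sum_congr rfl fun ψ _ => mul_mul_mul_comm _ _ _ _, ← Finset.mul_sum]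
  simp only [Finset.sum_mul, Finset.mul_sum]
  rw [Finset.sum_comm]
  simp only [← Finset.mul_sum]
  rw [Finset.sum_congr rfl fun d _ => by rw [Finset.sum_comm]]
  simp only [sum_irr_count]
  try simp only [Nat.cast_sum]
  rw [Finset.sum_congr rfl fun d' _ => hcount d', Finset.sum_const,
    Finset.card_univ, nsmul_eq_mul, ← Nat.card_eq_fintype_card]
  field_simp

theorem avg_norm_le (hp : IsKernelPair H L) (ψ : G → ℂ) :
    (Nat.card (der H L) : ℝ) *
      ∑ a ∈ Finset.univ.filter (fun a : L ⧸ der H L => a ∈ kbar H L ∧ a ≠ 1),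
        Complex.normSq (avg H L ψ a) ≤
      ∑ x ∈ Finset.univ.filter (fun x : G => x ∈ H ∧ x ≠ 1), Complex.normSq (ψ x) := by
  set s := Finset.univ.filter (fun a : L ⧸ der H L => a ∈ kbar H L ∧ a ≠ 1) with hs
  have hD : (0 : ℝ) < Nat.card (der H L) := Nat.cast_pos.2 Nat.card_pos
  calc (Nat.card (der H L) : ℝ) * ∑ a ∈ s, Complex.normSq (avg H L ψ a)
      ≤ ∑ a ∈ s, ∑ d : der H L, Complex.normSq (ψ ((a.out * d : L) : G)) := by
        rw [Finset.mul_sum]
        refine Finset.sum_le_sum fun a _ => ?_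
        rw [avg, Complex.normSq_mul, map_inv₀, Complex.normSq_natCast]
        set S := ∑ d : der H L, ψ ((a.out * d : L) : G) with hS
        have h1 : Complex.normSq S ≤
            (Nat.card (der H L) : ℝ) * ∑ d : der H L, Complex.normSq (ψ ((a.out * d : L) : G)) := by
          simp only [Complex.normSq_eq_norm_sq]
          refine (pow_le_pow_left₀ (norm_nonneg _) (norm_sum_le _ _) 2).trans ?_
          refine (sq_sum_le_card_mul_sum_sq).trans ?_
          rw [Finset.card_univ, ← Nat.card_eq_fintype_card]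
        field_simp
        linarith
    _ = ∑ p ∈ s ×ˢ (Finset.univ : Finset (der H L)),
          Complex.normSq (ψ ((p.1.out * p.2 : L) : G)) := by rw [Finset.sum_product]
    _ = ∑ x ∈ (s ×ˢ (Finset.univ : Finset (der H L))).image
          (fun p => ((p.1.out * p.2 : L) : G)), Complex.normSq (ψ x) := by
        rw [Finset.sum_image]
        intro p _ q _ h
        have h' : (p.1.out * p.2 : L) = q.1.out * q.2 := Subtype.ext h
        have hq := congrArg (fun z : L => (z : L ⧸ der H L)) h'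
        simp only [QuotientGroup.mk_mul_of_mem _ p.2.2, QuotientGroup.mk_mul_of_mem _ q.2.2,
          QuotientGroup.out_eq'] at hq
        rw [hq] at h'
        exact Prod.ext hq (Subtype.ext (mul_left_cancel h'))
    _ ≤ _ := by
        refine Finset.sum_le_sum_of_subset_of_nonneg ?_ fun x _ _ => Complex.normSq_nonneg _
        intro x hx
        simp only [hs, Finset.mem_image, Finset.mem_product, Finset.mem_filter, Finset.mem_univ,
          true_and, and_true] at hx ⊢
        obtain ⟨⟨a, d⟩, ⟨ha, ha1⟩, rfl⟩ := hx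
        exact ⟨rep_mem H L ha d, rep_ne_one H L ha1 d⟩

/-- A kernel whose abelianisation has prime order is abelian. -/
theorem der_eq_bot_of_prime (hp : IsKernelPair H L) (hprime : (Nat.card (kbar H L)).Prime) :
    Nat.card (der H L) = 1 := by
  have hnil := kernel_nilpotent H L hp
  set K := H.subgroupOf L
  set g2 : Subgroup K := (⊤ : Subgroup K).lowerCentralSeries 1 with hg2
  have hg2' : g2 = commutator K := Subgroup.top_lowerCentralSeries_one
  have hcard : Nat.card (K ⧸ commutator K) = Nat.card (kbar H L) := by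
    have h1 := Subgroup.card_eq_card_quotient_mul_card_subgroup (commutator K)
    have h2 := card_kernel H L
    have h3 : Nat.card (commutator K) = Nat.card (der H L) := by
      rw [der, ← Subgroup.map_subtype_commutator]
      exact Nat.card_congr (Subgroup.equivMapOfInjective _ _ K.subtype_injective).toEquiv
    rw [h3] at h1
    exact Nat.eq_of_mul_eq_mul_right Nat.card_pos (h1.symm.trans h2)
  have : Fact (Nat.card (kbar H L)).Prime := ⟨hprime⟩
  have hcyc : IsCyclic (K ⧸ commutator K) := isCyclic_of_prime_card hcard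
  -- the next term of the lower central series is already the derived group
  set g3 : Subgroup K := (⊤ : Subgroup K).lowerCentralSeries 2 with hg3
  have hle : g3 ≤ commutator K := by
    rw [← hg2']; exact Subgroup.lowerCentralSeries_antitone _ (by norm_num)
  have hn3 : g3.Normal := Subgroup.lowerCentralSeries_normal _ _
  let f : K ⧸ g3 →* K ⧸ commutator K :=
    QuotientGroup.map _ _ (MonoidHom.id K) hle
  have hker : f.ker ≤ Subgroup.center (K ⧸ g3) := by
    intro q hq
    obtain ⟨k, rfl⟩ := QuotientGroup.mk_surjective q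
    have hk : k ∈ commutator K := (QuotientGroup.eq_one_iff k).1 hq
    rw [Subgroup.mem_center_iff]
    intro r
    obtain ⟨x, rfl⟩ := QuotientGroup.mk_surjective r
    refine QuotientGroup.eq.2 ?_
    have : (x * k)⁻¹ * (k * x) = ⁅k⁻¹, x⁻¹⁆ := by rw [commutatorElement_def]; group
    rw [this]
    show _ ∈ ⁅g2, (⊤ : Subgroup K)⁆
    rw [hg2']
    exact Subgroup.commutator_mem_commutator (inv_mem hk) (Subgroup.mem_top _)
  have hcomm : ∀ q r : K ⧸ g3, q * r = r * q := commutative_of_cyclic_center_quotient f hker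
  have hge : commutator K ≤ g3 := by
    rw [commutator_def, Subgroup.commutator_le]
    intro x _ y _
    rw [← QuotientGroup.eq_one_iff]
    show QuotientGroup.mk' g3 ⁅x, y⁆ = 1
    rw [map_commutatorElement, commutatorElement_eq_one_iff_mul_comm]
    exact hcomm _ _
  have hstab : ∀ n : ℕ, commutator K ≤ (⊤ : Subgroup K).lowerCentralSeries (n + 1) := by
    intro n
    induction n with
    | zero => rw [← hg2']
    | succ n ih =>
      refine hge.trans ?_
      rw [hg3, Subgroup.lowerCentralSeries_succ, Subgroup.lowerCentralSeries_succ ⊤ (n + 1),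
        ← hg2, hg2']
      exact Subgroup.commutator_mono ih le_rfl
  obtain ⟨n, hn⟩ := nilpotent_iff_lowerCentralSeries.1 hnil
  have hbot : commutator K = ⊥ := le_bot_iff.1 ((hstab n).trans
    ((Subgroup.lowerCentralSeries_antitone _ (Nat.le_succ n)).trans hn.le))
  rw [der, ← Subgroup.map_subtype_commutator, hbot, Subgroup.map_bot, Subgroup.card_bot]

end Cfsg.Agent.CNFinish
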